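import Groth.Agent.Horrocks.SplitOff

/-!
Horrocks' criterion: modules without intermediate cohomology and without sections in very negative degrees are
sums of twists.
-/

set_option autoImplicit false
set_option linter.style.haveILetI false
set_option backward.isDefEq.respectTransparency false

universe u

open CategoryTheory CategoryTheory.Limits AlgebraicGeometry TopologicalSpace Opposite
open Groth.Agent.QC (res resO res_res res_self res_smul app_res)
open Groth.Agent.WeakAssLib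

noncomputable section

namespace Groth.Agent.Horrocks

attribute [local instance] Abelian.hasFiniteBiproducts

variable {k : Type u} [Field k] {d : ℕ}

/-- A finite sum of twists. -/
def IsSum (F : (CohB1.ProjSpace d k).Modules) : Prop :=
  ∃ (r : ℕ) (a : Fin r → ℤ), Nonempty (F ≅ ∐ fun i => Twist.twistProjSpace d k (a i))

theorem tw_iso {A B : (CohB1.ProjSpace d k).Modules} (e : A ≅ B) (n : ℤ) : Nonempty (tw A n ≅ tw B n) :=
  ⟨PicGrp.tensorModIso e (Iso.refl _)⟩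

theorem tw_biprod (A B : (CohB1.ProjSpace d k).Modules) (n : ℤ) : Nonempty (tw (A ⊞ B) n ≅ tw A n ⊞ tw B n) := by
  refine ⟨{ hom := biprod.lift (CohFinite.tmap biprod.fst _) (CohFinite.tmap biprod.snd _),
            inv := biprod.desc (CohFinite.tmap biprod.inl _) (CohFinite.tmap biprod.inr _),
            hom_inv_id := ?_, inv_hom_id := ?_ }⟩
  · rw [biprod.lift_desc, ← CohFinite.tmap_comp, ← CohFinite.tmap_comp, ← CohFinite.tmap_add, biprod.total,
      CohFinite.tmap_id]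
  · refine biprod.hom_ext' _ _ ?_ ?_ <;> refine biprod.hom_ext _ _ ?_ ?_ <;>
      simp [← CohFinite.tmap_comp, CohFinite.tmap_id, CohFinite.tmap_zero]

theorem hh_right {A B : (CohB1.ProjSpace d k).Modules} (q : ℕ) (h : Subsingleton (Coh.HH _ (A ⊞ B) q)) :
    Subsingleton (Coh.HH _ B q) := by
  refine Function.Injective.subsingleton (f := CohFinite.hhMap k (biprod.inr : B ⟶ A ⊞ B) q) ?_
  refine Function.LeftInverse.injective (g := CohFinite.hhMap k (biprod.snd : A ⊞ B ⟶ B) q) fun x => ?_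
  rw [← CohFinite.hhMap_comp, biprod.inr_snd, CohFinite.hhMap_id]

theorem hh_tw_Om (a n : ℤ) (q : ℕ) (h₀ : ¬ (q = 0 ∧ 0 ≤ a + n)) (hn : ¬ (q = d ∧ a + n ≤ -((d : ℤ) + 1))) :
    Subsingleton (Coh.HH _ (tw (Om k d a) n) q) := by
  obtain ⟨e⟩ := RegCx.twist_twist (k := k) (n := d) a n (a + n) rfl
  exact CohQC.hh_subsingleton_of_iso e.symm q (ProjCech.twist_vanish (R := k) d (a + n) q h₀ hn)

theorem hh_tw_coprod {r : ℕ} (T : Fin r → (CohB1.ProjSpace d k).Modules) (n : ℤ) (q : ℕ)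
    (h : ∀ i, Subsingleton (Coh.HH _ (tw (T i) n) q)) : Subsingleton (Coh.HH _ (tw (∐ T) n) q) := by
  obtain ⟨e⟩ := tw_iso (biproduct.isoCoproduct T) n
  refine CohQC.hh_subsingleton_of_iso e q ?_
  refine CohFinite.subsingleton_of_split _ (fun i => tw (T i) n)
    (fun i => CohFinite.tmap (biproduct.ι T i) _) (fun i => CohFinite.tmap (biproduct.π T i) _) ?_ q h
  simp_rw [← CohFinite.tmap_comp, ← CohFinite.tmap_sum, biproduct.total, CohFinite.tmap_id]

theorem hh_tw_sum {r : ℕ} (a : Fin r → ℤ) (n : ℤ) (q : ℕ)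
    (h : ∀ i, Subsingleton (Coh.HH _ (tw (Om k d (a i)) n) q)) :
    Subsingleton (Coh.HH _ (tw (∐ fun i => Twist.twistProjSpace d k (a i)) n) q) :=
  hh_tw_coprod (fun i => Twist.twistProjSpace d k (a i)) n q h

theorem cond_and_low_of_isSum (hd : 1 ≤ d) {F : (CohB1.ProjSpace d k).Modules} (h : IsSum F) : Cond F ∧ Low F := by
  obtain ⟨r, a, ⟨e⟩⟩ := h
  refine ⟨fun n i hi hid => ?_, ⟨-(∑ i, |a i|) - 1, fun n hn => ?_⟩⟩
  · obtain ⟨f⟩ := tw_iso e n
    refine CohQC.hh_subsingleton_of_iso f.symm i (hh_tw_sum a n i fun j => hh_tw_Om _ _ _ ?_ ?_) <;> omega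
  · obtain ⟨f⟩ := tw_iso e n
    refine CohQC.hh_subsingleton_of_iso f.symm 0 (hh_tw_sum a n 0 fun j => hh_tw_Om _ _ _ ?_ ?_)
    · have h1 : a j ≤ ∑ i, |a i| :=
        (le_abs_self _).trans (Finset.single_le_sum (f := fun i => |a i|) (fun i _ => abs_nonneg _) (Finset.mem_univ j))
      omega
    · omega

theorem nonempty_consIso {X : Scheme.{u}} {r : ℕ} (A : X.Modules) (T : Fin r → X.Modules)
    (T' : Fin (r + 1) → X.Modules) (h₀ : T' 0 = A) (h₁ : ∀ i, T' i.succ = T i) :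
    Nonempty (A ⊞ ∐ T ≅ ∐ T') := by
  subst h₀
  obtain rfl : T = fun i => T' i.succ := funext fun i => (h₁ i).symm
  refine ⟨{ hom := biprod.desc (Sigma.ι T' 0) (Sigma.desc fun i => Sigma.ι T' i.succ)
            inv := Sigma.desc (Fin.cases biprod.inl fun i => Sigma.ι (fun i => T' i.succ) i ≫ biprod.inr)
            hom_inv_id := ?_, inv_hom_id := ?_ }⟩
  · refine biprod.hom_ext' _ _ ?_ (Sigma.hom_ext _ _ fun i => ?_)
    · rw [biprod.inl_desc_assoc, Sigma.ι_desc, Category.comp_id]; rfl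
    · rw [biprod.inr_desc_assoc, Sigma.ι_desc_assoc, Sigma.ι_desc, Category.comp_id]; rfl
  · refine Sigma.hom_ext _ _ fun i => ?_
    refine Fin.cases ?_ (fun j => ?_) i
    · rw [Sigma.ι_desc_assoc, Category.comp_id]; exact biprod.inl_desc _ _
    · rw [Sigma.ι_desc_assoc, Category.comp_id]
      show (Sigma.ι (fun i => T' i.succ) j ≫ biprod.inr) ≫ biprod.desc _ _ = _
      rw [Category.assoc, biprod.inr_desc, Sigma.ι_desc]

theorem exists_cons {X : Scheme.{u}} (Φ : ℤ → X.Modules) {F G : X.Modules} (a : ℤ) (e : F ≅ Φ a ⊞ G) {r : ℕ}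
    (b : Fin r → ℤ) (f : G ≅ ∐ fun i => Φ (b i)) :
    ∃ (r' : ℕ) (a' : Fin r' → ℤ), Nonempty (F ≅ ∐ fun i => Φ (a' i)) := by
  obtain ⟨g⟩ := nonempty_consIso (Φ a) (fun i => Φ (b i)) (fun i => Φ (Fin.cons (α := fun _ => ℤ) a b i))
    rfl (fun i => congrArg Φ (Fin.cons_succ (α := fun _ => ℤ) a b i))
  exact ⟨r + 1, Fin.cons a b, ⟨e ≪≫ biprod.mapIso (Iso.refl _) f ≪≫ g⟩⟩

theorem isSum_cons {F G : (CohB1.ProjSpace d k).Modules} (a : ℤ) (e : F ≅ Om k d a ⊞ G) (h : IsSum G) : IsSum F := by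
  obtain ⟨r, b, ⟨f⟩⟩ := h
  exact exists_cons (Twist.twistProjSpace d k) a e b f

theorem isSum_of_isZero {F : (CohB1.ProjSpace d k).Modules} (h : IsZero F) : IsSum F :=
  ⟨0, Fin.elim0, ⟨h.iso (by
    rw [IsZero.iff_id_eq_zero]
    exact Sigma.hom_ext _ _ fun i => i.elim0)⟩⟩

theorem isSum_aux (hd : 1 ≤ d) (N : ℤ) : ∀ (h : ℕ) (F : (CohB1.ProjSpace d k).Modules), Coh.IsCoh F → Cond F →
    Low F → (∀ j, N - d ≤ j → Subsingleton (Coh.HH _ (tw F j) d)) →
    Module.finrank k (Coh.HH _ (tw F N) 0) ≤ h → IsSum F := by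
  intro h
  induction h using Nat.strong_induction_on with
  | _ h ih =>
  intro F hF hC hL hN hrk
  obtain ⟨M₀, hM₀⟩ := exists_gen_large F hF
  by_cases hex : ∃ c, c ≤ N ∧ ¬ Subsingleton (Coh.HH _ (tw F (c - 1 - d)) d)
  · obtain ⟨c, ⟨hcN, hc⟩, hmax⟩ := Int.exists_greatest_of_bdd ⟨N, fun z hz => hz.1⟩ hex
    have habove : ∀ c', c < c' → Subsingleton (Coh.HH _ (tw F (c' - 1 - d)) d) := fun c' hc' => by
      by_contra hne
      by_cases hle : c' ≤ N
      · exact absurd (hmax c' ⟨hle, hne⟩) (by omega)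
      · exact hne (hN _ (by omega))
    have hgen : IsGen₀ (tw F c) := by
      have key : ∀ m : ℕ, ∀ c', c ≤ c' → c' + m = max c M₀ → IsGen₀ (tw F c') := by
        intro m
        induction m with
        | zero =>
          intro c' hc' e
          have := hM₀ c'.toNat (by omega)
          rwa [Int.toNat_of_nonneg (by omega)] at this
        | succ m ihm =>
          intro c' hc' e
          have := gen_down F hd hF hC (c' + 1) (habove _ (by omega)) (ihm (c' + 1) (by omega) (by omega))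
          rwa [add_sub_cancel_right] at this
      exact key (max c M₀ - c).toNat c le_rfl (by omega)
    obtain ⟨f⟩ := tw_tw F c (-1 - (d : ℤ)) (c - 1 - d) (by ring)
    obtain ⟨G', hG', ⟨e⟩⟩ := split_off hd (isCoh_tw hF c) hgen
      fun hs => hc (CohQC.hh_subsingleton_of_iso f _ hs)
    obtain ⟨f₁⟩ := tw_tw F c (-c) 0 (by ring)
    obtain ⟨f₂⟩ := tw_zero F
    obtain ⟨f₃⟩ := tw_iso e (-c)
    obtain ⟨f₄⟩ := tw_biprod (Coh.structureModule (CohB1.ProjSpace d k)) G' (-c)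
    let E : F ≅ Om k d (-c) ⊞ tw G' (-c) := f₂.symm ≪≫ f₁.symm ≪≫ f₃ ≪≫ f₄ ≪≫
      biprod.mapIso (TMul.leftUnitIso _) (Iso.refl _)
    refine isSum_cons (-c) E ?_
    have hre : ∀ n q, Subsingleton (Coh.HH _ (tw F n) q) → Subsingleton (Coh.HH _ (tw (tw G' (-c)) n) q) := by
      intro n q hs
      obtain ⟨g₁⟩ := tw_iso E n
      obtain ⟨g₂⟩ := tw_biprod (Om k d (-c)) (tw G' (-c)) n
      exact hh_right q (CohQC.hh_subsingleton_of_iso (g₁ ≪≫ g₂) q hs)
    obtain ⟨n₀, hn₀⟩ := hL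
    have hF' : Coh.IsCoh (tw G' (-c)) := isCoh_tw hG' _
    obtain ⟨g₁⟩ := tw_iso E N
    obtain ⟨g₂⟩ := tw_biprod (Om k d (-c)) (tw G' (-c)) N
    haveI := CohFinite.finite_projSpace d k _ (isCoh_tw hF N) 0
    have hlt : Module.finrank k (Coh.HH _ (tw (tw G' (-c)) N) 0) < Module.finrank k (Coh.HH _ (tw F N) 0) := by
      let j := CohFinite.hhMap k ((biprod.inr : _ ⟶ tw (Om k d (-c)) N ⊞ tw (tw G' (-c)) N) ≫ (g₁ ≪≫ g₂).inv) 0
      have hj : Function.Injective j := Function.LeftInverse.injective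
        (g := CohFinite.hhMap k ((g₁ ≪≫ g₂).hom ≫ biprod.snd) 0) fun x => by
          rw [← CohFinite.hhMap_comp]; simp [CohFinite.hhMap_id]
      obtain ⟨x, hx⟩ : ∃ x : Coh.HH _ (tw (Om k d (-c)) N) 0, x ≠ 0 := by
        by_contra! hall
        obtain ⟨p, hp⟩ := Int.eq_ofNat_of_zero_le (show 0 ≤ -c + N by omega)
        obtain ⟨ee⟩ := RegCx.twist_twist (k := k) (n := d) (-c) N (p : ℤ) hp
        obtain ⟨Z⟩ := ProjCech.zero_equiv (R := k) d p
        let q : ↥(MvPolynomial.homogeneousSubmodule (Fin (d + 1)) k p) :=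
          ⟨MvPolynomial.X 0 ^ p, (MvPolynomial.mem_homogeneousSubmodule _ _).mpr (MvPolynomial.isHomogeneous_X_pow 0 p)⟩
        have hq := congrArg ((CohFinite.hhEquiv k ee 0).trans Z) (hall (((CohFinite.hhEquiv k ee 0).trans Z).symm q))
        rw [LinearEquiv.apply_symm_apply, map_zero] at hq
        exact pow_ne_zero p (MvPolynomial.X_ne_zero (R := k) (0 : Fin (d + 1))) (congrArg Subtype.val hq)
      have hns : LinearMap.range j ≠ ⊤ := fun htop => by
        obtain ⟨y, hy⟩ := LinearMap.range_eq_top.mp htop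
          (CohFinite.hhMap k ((biprod.inl : _ ⟶ tw (Om k d (-c)) N ⊞ tw (tw G' (-c)) N) ≫ (g₁ ≪≫ g₂).inv) 0 x)
        have := congrArg (CohFinite.hhMap k ((g₁ ≪≫ g₂).hom ≫ biprod.fst) 0) hy
        rw [← CohFinite.hhMap_comp, ← CohFinite.hhMap_comp] at this
        simp [CohFinite.hhMap_id, hhMap_zero] at this
        exact hx this.symm
      calc Module.finrank k (Coh.HH _ (tw (tw G' (-c)) N) 0) = Module.finrank k (LinearMap.range j) :=
            (LinearMap.finrank_range_of_inj hj).symm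
        _ < Module.finrank k (Coh.HH _ (tw F N) 0) := Submodule.finrank_lt hns
    exact ih _ (lt_of_lt_of_le hlt hrk) _ hF' (fun n i hi hid => hre n i (hC n i hi hid))
      ⟨n₀, fun n hn => hre n 0 (hn₀ n hn)⟩ (fun j hj => hre j d (hN j hj)) le_rfl
  · push Not at hex
    have hall : ∀ c : ℤ, Subsingleton (Coh.HH _ (tw F (c - 1 - d)) d) := fun c => by
      by_cases hle : c ≤ N
      · exact hex c hle
      · exact hN _ (by omega)
    obtain ⟨n₀, hn₀⟩ := hL
    have h0 : ∀ m : ℕ, Subsingleton (Coh.HH _ (tw F (n₀ + m)) 0) := fun m => by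
      induction m with
      | zero => exact hn₀ _ (by simp)
      | succ m ihm =>
        have := h0_up F hd hF hC (n₀ + m + 1) (hall _) (by rwa [add_sub_cancel_right])
        rwa [show (n₀ + ((m + 1 : ℕ) : ℤ)) = n₀ + m + 1 by push_cast; ring]
    have hz : IsZero (tw F ((max (M₀ : ℤ) n₀).toNat : ℤ)) := by
      refine KFlat.isZero_of_stalks _ fun x => ?_
      have hs : Subsingleton Γ(tw F ((max (M₀ : ℤ) n₀).toNat : ℤ), ⊤) := (subsingleton_gamma_iff _).2 (by
        have := h0 (((max (M₀ : ℤ) n₀).toNat : ℤ) - n₀).toNat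
        rwa [show n₀ + ((((max (M₀ : ℤ) n₀).toNat : ℤ) - n₀).toNat : ℤ) = ((max (M₀ : ℤ) n₀).toNat : ℤ) by omega] at this)
      have hg := hM₀ _ (show M₀ ≤ (max (M₀ : ℤ) n₀).toNat by omega) x
      refine ModuleCat.isZero_of_iff_subsingleton.mpr (subsingleton_of_forall_eq 0 fun v => ?_)
      have hv : v ∈ genSub (tw F ((max (M₀ : ℤ) n₀).toNat : ℤ)) x := hg.ge trivial
      refine Submodule.span_le (p := ⊥).2 ?_ hv
      rintro _ ⟨w, rfl⟩
      show mgerm _ _ w = 0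
      rw [Subsingleton.elim w 0, map_zero]
    obtain ⟨f₁⟩ := tw_tw F ((max (M₀ : ℤ) n₀).toNat : ℤ) (-((max (M₀ : ℤ) n₀).toNat : ℤ)) 0 (by ring)
    obtain ⟨f₂⟩ := tw_zero F
    exact isSum_of_isZero (IsZero.of_iso (isZero_tP (P := Om k d (-((max (M₀ : ℤ) n₀).toNat : ℤ))) 1 _ hz)
      (f₁ ≪≫ f₂).symm)

/-- **Horrocks' criterion.** -/
theorem isSum_iff (hd : 1 ≤ d) (F : (CohB1.ProjSpace d k).Modules) (hF : Coh.IsCoh F) :
    IsSum F ↔ Cond F ∧ Low F := by
  refine ⟨cond_and_low_of_isSum hd, fun ⟨hC, hL⟩ => ?_⟩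
  obtain ⟨m₀, hm₀⟩ := CohFinite.vanish_projSpace_deg d k (d - 1) F hF
  refine isSum_aux hd ((m₀ : ℤ) + d) _ F hF hC hL (fun j hj => ?_) le_rfl
  obtain ⟨p, rfl⟩ := Int.eq_ofNat_of_zero_le (show 0 ≤ j by omega)
  obtain ⟨e⟩ := GrT.nonempty_iso_tensorPow (𝒜 := CohB1.polyGrading d k) (CohFinite.cov_one d k) p
  have h := hm₀ p (by omega)
  rw [show d - 1 + 1 = d by omega] at h
  exact CohQC.hh_subsingleton_of_iso (PicGrp.tensorModIso (Iso.refl F) e).symm d h

end Groth.Agent.Horrocks
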