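import Groth.Agent.S3557
import Groth.Agent.S10829
import Groth.Agent.RegTilde.Complexes
import Groth.Agent.WeakAssLib.Stalk

/-!
Top cohomology on projective space: surjectivity along a nonzero map into an invertible module.
-/

set_option autoImplicit false
set_option linter.style.haveILetI false
set_option backward.isDefEq.respectTransparency false

universe u

open CategoryTheory CategoryTheory.Limits AlgebraicGeometry TopologicalSpace Opposite
open Groth.Agent.QC (res resO res_smul app_res)
open Groth.Agent.WeakAssLib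

noncomputable section

namespace Groth.Agent.Horrocks

variable {k : Type u} [Field k] {n : ℕ}

theorem isIntegral_projSpace : IsIntegral (CohB1.ProjSpace n k) := by
  refine (Groth.Agent.S3557.result (CohB1.polyGrading n k) fun f _ h => h.eq_zero).mpr
    ⟨⟨MvPolynomial.X 0, HomogeneousIdeal.mem_irrelevant_of_mem _ one_pos (MvPolynomial.isHomogeneous_X k 0),
      MvPolynomial.X_ne_zero 0⟩, fun f _ g _ h => mul_eq_zero.mp h⟩

theorem dim_le_of_closed_ne_univ {Z : Set (CohB1.ProjSpace n k)} (hZ : IsClosed Z) (hne : Z ≠ Set.univ)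
    (e : ℕ) (he : n ≤ e + 1) : topologicalKrullDim Z ≤ (e : WithBot ℕ∞) := by
  haveI := isIntegral_projSpace (k := k) (n := n)
  haveI : QuasiSober Z := hZ.isClosedEmbedding_subtypeVal.quasiSober
  refine Groth.Agent.Unibranch.topologicalKrullDim_le_natCast fun l c hc => ?_
  have hη : genericPoint (CohB1.ProjSpace n k) ∉ Z := fun h =>
    hne (Set.eq_univ_of_forall fun x => (genericPoint_specializes x).mem_closed hZ h)
  have h1 := Groth.Agent.Unibranch.natCast_le_topologicalKrullDim
    (Fin.cons (genericPoint (CohB1.ProjSpace n k)) fun i => (c i).1) fun i => by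
      refine Fin.cases ?_ (fun j => ?_) i
      · refine ⟨genericPoint_specializes _, fun h => hη ?_⟩
        simp only [Fin.castSucc_zero, Fin.cons_zero, Fin.cons_succ] at h
        exact h ▸ (c 0).2
      · simp only [← Fin.succ_castSucc, Fin.cons_succ]
        exact ⟨(subtype_specializes_iff _ _).mp (hc j).1, fun h => (hc j).2 (Subtype.ext h)⟩
  rw [Groth.Agent.S10829.result k n] at h1
  exact Nat.succ_le_succ_iff.mp ((CartierDim.natCast_le_withBot.mp h1).trans he)

theorem isNoetherian_space : NoetherianSpace (CohB1.ProjSpace n k) := by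
  haveI := CohFinite.isNoetherian_projSpace n k
  infer_instance

/-- Top cohomology surjects along a nonzero map into `O`, after twisting. -/
theorem hd_surjective_of_ne_zero (hn : 1 ≤ n) {K : (CohB1.ProjSpace n k).Modules} (hK : Coh.IsQCoh K)
    (ψ : K ⟶ Coh.structureModule (CohB1.ProjSpace n k)) (hψ : ψ ≠ 0) (a : ℤ) :
    Function.Surjective
      (CohFinite.hhMap k (CohFinite.tmap ψ (Twist.twistProjSpace n k a)) n) := by
  haveI := isIntegral_projSpace (k := k) (n := n)
  haveI := isNoetherian_space (k := k) (n := n)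
  obtain ⟨W, t, ht⟩ : ∃ (W : (CohB1.ProjSpace n k).Opens) (t : Γ(K, W)),
      (show Γ(CohB1.ProjSpace n k, W) from ψ.app W t) ≠ 0 := by
    by_contra! h
    refine hψ (Scheme.Modules.hom_ext _ _ fun W => ?_)
    ext t
    exact h W t
  let h : Γ(CohB1.ProjSpace n k, W) := ψ.app W t
  have hV : (((CohB1.ProjSpace n k).basicOpen h : (CohB1.ProjSpace n k).Opens) : Set (CohB1.ProjSpace n k)).Nonempty := by
    rw [Set.nonempty_iff_ne_empty]
    intro he
    exact ht ((basicOpen_eq_bot_iff h).mp (Opens.ext he))
  let f := Abelian.image.ι ψ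
  let S : ShortComplex (CohB1.ProjSpace n k).Modules := ShortComplex.mk f (cokernel.π f) (cokernel.condition f)
  have hS : S.ShortExact :=
    { exact := ShortComplex.exact_cokernel f, mono_f := inferInstanceAs (Mono (Abelian.image.ι ψ))
      epi_g := inferInstanceAs (Epi (cokernel.π f)) }
  have hsupp : ∀ x ∉ (((CohB1.ProjSpace n k).basicOpen h : (CohB1.ProjSpace n k).Opens) : Set (CohB1.ProjSpace n k))ᶜ, x ∉ CohB1.support S.X₃ := by
    intro x hx hxs
    rw [Set.mem_compl_iff, not_not] at hx
    refine hxs (subsingleton_of_forall_eq 0 fun v => ?_)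
    haveI : Epi S.g := hS.epi_g
    obtain ⟨w, rfl⟩ := (ModuleCat.epi_iff_surjective _).1
      (inferInstance : Epi ((DerSch.stalkFunctor _ x).map S.g)) v
    have hxW : x ∈ W := (CohB1.ProjSpace n k).basicOpen_le h hx
    obtain ⟨c, hc⟩ := ((CohB1.ProjSpace n k).mem_basicOpen h x hxW).1 hx
    obtain ⟨V, hxV, s, rfl⟩ := (Coh.structureModule (CohB1.ProjSpace n k)).presheaf.exists_germ_eq (x := x) w
    show stalkHom S.g x (mgerm _ hxV s) = 0
    have h0 : stalkHom S.g x (mgerm (Coh.structureModule (CohB1.ProjSpace n k)) hxW (ψ.app W t)) = 0 := by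
      rw [stalkHom_germ]
      have : ψ ≫ cokernel.π f = 0 := by
        exact (congrArg (· ≫ cokernel.π f) (Abelian.image.fac ψ).symm).trans (by
          simp only [Category.assoc]; exact (congrArg (Abelian.factorThruImage ψ ≫ ·) (cokernel.condition f)).trans comp_zero)
      exact (congrArg (mgerm _ hxW) (congrArg (fun φ : K ⟶ cokernel f => φ.app W t) this)).trans (map_zero _)
    have h1 : mgerm (Coh.structureModule (CohB1.ProjSpace n k)) hxV s =
        ((CohB1.ProjSpace n k).presheaf.germ V x hxV s * ↑c⁻¹) •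
          mgerm (Coh.structureModule (CohB1.ProjSpace n k)) hxW (ψ.app W t) := by
      have hxVW : x ∈ V ⊓ W := ⟨hxV, hxW⟩
      have e1 : ∀ (U : (CohB1.ProjSpace n k).Opens) (hU : x ∈ U) (r : Γ(CohB1.ProjSpace n k, U)),
          mgerm (Coh.structureModule (CohB1.ProjSpace n k)) hU r =
            (CohB1.ProjSpace n k).presheaf.germ U x hU r • mgerm (Coh.structureModule (CohB1.ProjSpace n k))
              (show x ∈ (⊤ : (CohB1.ProjSpace n k).Opens) from trivial) (1 : Γ(CohB1.ProjSpace n k, ⊤)) := by
        intro U hU r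
        rw [← mgerm_res _ (le_top : U ≤ ⊤) hU, ← mgerm_smul]
        refine congrArg (mgerm _ hU) ?_
        show r = HMul.hMul (α := Γ(CohB1.ProjSpace n k, U)) r (resO _ le_top 1)
        rw [map_one, mul_one]
      rw [e1 V hxV s, e1 W hxW (ψ.app W t), smul_smul]
      refine congrArg (· • _) ?_
      show _ = _ * (CohB1.ProjSpace n k).presheaf.germ W x hxW h
      rw [← hc, mul_assoc, Units.inv_mul, mul_one]
    rw [h1, stalkHom_smul, h0, smul_zero]
  have hdim := dim_le_of_closed_ne_univ (k := k) ((CohB1.ProjSpace n k).basicOpen h).2.isClosed_compl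
    (fun h' => by obtain ⟨y, hy⟩ := hV; exact (h'.ge (Set.mem_univ y)) hy) (n - 1) (by omega)
  have hST := CohFinite.shortExact_tmap (CohFinite.isInvertible_twist n k a) hS
  have h3 : Subsingleton (Coh.HH _ (CohB1.tensorMod S.X₃ (Twist.twistProjSpace n k a)) n) :=
    RegCx.subsingleton_hh_of_supported ((CohB1.ProjSpace n k).basicOpen h).2.isClosed_compl (n - 1) hdim _
      (fun x hx => SuppZero.notMem_support_tensorMod _ _ (CohFinite.isInvertible_twist n k a) (hsupp x hx)) n
      (by omega)
  intro y
  obtain ⟨z, hz⟩ := (CohFinite.map_g_eq_zero_iff (CohFinite.shortExact_toAb hST) n y).1 (h3.elim _ _)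
  have hp : Function.Surjective
      (CohFinite.hhMap k (CohFinite.tmap (Abelian.factorThruImage ψ) (Twist.twistProjSpace n k a)) n) := by
    haveI : Epi (Abelian.factorThruImage ψ) := inferInstance
    let T : ShortComplex (CohB1.ProjSpace n k).Modules :=
      ShortComplex.mk (kernel.ι (Abelian.factorThruImage ψ)) _ (kernel.condition _)
    have hT : T.ShortExact :=
      { exact := ShortComplex.exact_of_f_is_kernel _ (kernelIsKernel _), mono_f := inferInstanceAs (Mono (kernel.ι _)), epi_g := ‹_› }
    have hTT := CohFinite.shortExact_tmap (CohFinite.isInvertible_twist n k a) hT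
    intro w
    have hqI : Coh.IsQCoh (Abelian.image ψ) := QC.isQCoh_kernel (QC.isQCoh_unit _) (QC.isQCoh_cokernel hK (QC.isQCoh_unit _) ψ) _
    have hqT : Coh.IsQCoh (kernel (Abelian.factorThruImage ψ)) := QC.isQCoh_kernel hK hqI _
    have h4 := RegCx.hh_above (kernel (Abelian.factorThruImage ψ)) hqT a (n + 1) (Nat.lt_succ_self n)
    exact (CohFinite.δH_eq_zero_iff (CohFinite.shortExact_toAb hTT) n w).1 (h4.elim _ _)
  obtain ⟨z', rfl⟩ := hp z
  refine ⟨z', Eq.trans ?_ hz⟩
  have e : CohFinite.tmap (Abelian.factorThruImage ψ) (Twist.twistProjSpace n k a) ≫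
      CohFinite.tmap f (Twist.twistProjSpace n k a) = CohFinite.tmap ψ (Twist.twistProjSpace n k a) := by
    rw [← CohFinite.tmap_comp, Abelian.image.fac]
  rw [← e, CohFinite.hhMap_comp]
  rfl

end Groth.Agent.Horrocks
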