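import Groth.Agent.Horrocks.Bundles
import Groth.Agent.TMul.RelAmple
import Groth.Agent.DerPerf.Local

/-!
Vector bundles on `P^0` and splitting of extensions of twists.
-/

set_option autoImplicit false
set_option linter.style.haveILetI false
set_option backward.isDefEq.respectTransparency false

universe u

open CategoryTheory CategoryTheory.Limits AlgebraicGeometry TopologicalSpace Opposite

noncomputable section

namespace Groth.Agent.Horrocks

attribute [local instance] Abelian.hasFiniteBiproducts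

variable {k : Type u} [Field k]

theorem exists_sum_point {r : ℕ} {E : (CohB1.ProjSpace 0 k).Modules} (hE : FlatMod.IsFinLocFreeOfRank r E) :
    ∃ a : Fin r → ℤ, Nonempty (E ≅ ∐ fun i => Twist.twistProjSpace 0 k (a i)) := by
  haveI := ProjMor.isIso_toSpec_zero k
  haveI : Subsingleton (CohB1.ProjSpace 0 k) :=
    (Scheme.homeoOfIso (asIso (CohB1.ProjSpace.toSpec 0 k))).toEquiv.subsingleton
  haveI := isIntegral_projSpace (k := k) (n := 0)
  obtain ⟨W, hxW, ⟨e⟩⟩ := hE (genericPoint _)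
  obtain rfl : W = ⊤ := top_le_iff.mp fun y _ => Subsingleton.elim (genericPoint (CohB1.ProjSpace 0 k)) y ▸ hxW
  obtain ⟨e₀⟩ := Om_zero (k := k) (d := 0)
  let X := CohB1.ProjSpace 0 k
  let e1 : (Scheme.Modules.pullback X.topIso.inv).obj (E.restrict (⊤ : X.Opens).ι) ≅ E :=
    (Scheme.Modules.pullback X.topIso.inv).mapIso
      ((Scheme.Modules.restrictFunctorIsoPullback (⊤ : X.Opens).ι).app E) ≪≫
      (Scheme.Modules.pullbackComp _ _).app E ≪≫
      (Scheme.Modules.pullbackCongr (X.topIso.inv_hom_id)).app E ≪≫ (Scheme.Modules.pullbackId X).app E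
  exact ⟨fun _ => 0, ⟨e1.symm ≪≫ (Scheme.Modules.pullback X.topIso.inv).mapIso e ≪≫ DerPerf.pullFreeIso _ r ≪≫
    Sigma.mapIso (fun _ => e₀.symm)⟩⟩

theorem exists_mapIso {X : Scheme.{u}} (M : X.Modules) {A B : X.Modules} (e : A ≅ B) :
    ∃ i : CohB1.tensorMod M A ≅ CohB1.tensorMod M B, ∀ (D : X.Opens) (m : Γ(M, D)) (a : Γ(A, D)),
      i.hom.app D (TMul.tm m a) = TMul.tm m (e.hom.app D a) :=
  ⟨((DCoh.tensorBi (X := X)).obj M).mapIso e, fun _ m a => W7Hull.map_tm M e.hom m a⟩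

theorem exists_natural_untwist {X : Scheme.{u}} {P Q : X.Modules}
    (e : CohB1.tensorMod P Q ≅ Coh.structureModule X) :
    ∃ θ : ∀ M : X.Modules, CohB1.tensorMod (CohB1.tensorMod M P) Q ≅ M,
      ∀ {M N : X.Modules} (φ : M ⟶ N),
        CohFinite.tmap (CohFinite.tmap φ P) Q ≫ (θ N).hom = (θ M).hom ≫ φ := by
  choose i hi using fun M : X.Modules => exists_mapIso M e
  refine ⟨fun M => TMul.assocIso M P Q ≪≫ i M ≪≫ SecTwist.unitorR M, fun {M N} φ => TMul.hom_ext₃ fun U m p q => ?_⟩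
  show (SecTwist.unitorR N).hom.app U ((i N).hom.app U ((TMul.assocHom N P Q).app U
      ((CohFinite.tmap (CohFinite.tmap φ P) Q).app U (TMul.tm (TMul.tm m p) q)))) =
    φ.app U ((SecTwist.unitorR M).hom.app U ((i M).hom.app U ((TMul.assocHom M P Q).app U
      (TMul.tm (TMul.tm m p) q))))
  rw [CohFinite.tmap_tm, CohFinite.tmap_tm, TMul.assocHom_tm, TMul.assocHom_tm, hi, hi]
  rw [ResDesc.unitorR_tm, ResDesc.unitorR_tm, Scheme.Modules.Hom.app_smul]

theorem nonempty_splitting {n : ℕ} (hn : 2 ≤ n) (a b : ℤ) (S : ShortComplex (CohB1.ProjSpace n k).Modules)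
    (hS : S.ShortExact) (ha : Nonempty (S.X₁ ≅ Twist.twistProjSpace n k a))
    (hb : Nonempty (S.X₃ ≅ Twist.twistProjSpace n k b)) : Nonempty S.Splitting := by
  obtain ⟨α⟩ := ha
  obtain ⟨β⟩ := hb
  haveI := hS.mono_f
  obtain ⟨e₁⟩ := RegCx.twist_twist (k := k) (n := n) b (-b) 0 (by ring)
  obtain ⟨e₂⟩ := RegCx.twist_twist (k := k) (n := n) (-b) b 0 (by ring)
  obtain ⟨e₀⟩ := Om_zero (k := k) (d := n)
  obtain ⟨θ, hθ⟩ := exists_natural_untwist (e₂ ≪≫ e₀)
  obtain ⟨β'⟩ := tw_iso β (-b)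
  let i₃ : Coh.structureModule (CohB1.ProjSpace n k) ≅ tw S.X₃ (-b) := (e₁ ≪≫ e₀).symm ≪≫ β'.symm
  obtain ⟨α'⟩ := tw_iso α (-b)
  have h1 : Subsingleton (Coh.HH _ (tw S.X₁ (-b)) 1) :=
    CohQC.hh_subsingleton_of_iso α'.symm 1 (hh_tw_Om a (-b) 1 (by omega) (by omega))
  obtain ⟨w, hw⟩ := exists_section_lift (CohFinite.shortExact_tmap (CohFinite.isInvertible_twist n k (-b)) hS) h1
    (i₃.hom.app ⊤ (1 : Γ(CohB1.ProjSpace n k, ⊤)))
  have hu : TMul.homOf w ≫ CohFinite.tmap S.g _ = i₃.hom := by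
    refine Scheme.Modules.hom_ext _ _ fun U => ?_
    ext c
    show (CohFinite.tmap S.g _).app U ((TMul.homOf w).app U c) = i₃.hom.app U c
    rw [TMul.app_eq_smul, TMul.app_eq_smul i₃.hom, Scheme.Modules.Hom.app_smul, TMul.val_homOf]
    refine congrArg (fun v => (show Γ(CohB1.ProjSpace n k, U) from c) • v) ?_
    refine (QC.app_res _ _ _).symm.trans ((congrArg (QC.res _ le_top) hw).trans ?_)
    exact (congrArg (QC.res (tw S.X₃ (-b)) le_top) ((TMul.app_eq_smul i₃.hom _).trans (one_smul _ _))).trans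
      (TMul.res_val i₃.hom le_top)
  let s : S.X₃ ⟶ S.X₂ := (θ S.X₃).inv ≫ CohFinite.tmap (i₃.inv ≫ TMul.homOf w) _ ≫ (θ S.X₂).hom
  have hs : s ≫ S.g = 𝟙 _ := by
    show ((θ S.X₃).inv ≫ CohFinite.tmap (i₃.inv ≫ TMul.homOf w) _ ≫ (θ S.X₂).hom) ≫ S.g = _
    rw [Category.assoc, Category.assoc, ← hθ S.g, ← Category.assoc (CohFinite.tmap _ _) (CohFinite.tmap _ _),
      ← CohFinite.tmap_comp, Category.assoc i₃.inv, hu, i₃.inv_hom_id, CohFinite.tmap_id, Category.id_comp,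
      Iso.inv_hom_id]
  exact ⟨ShortComplex.Splitting.ofExactOfSection S hS.exact s hs hS.mono_f⟩

end Groth.Agent.Horrocks
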