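import Groth.Agent.Horrocks.Koszul
import Groth.Agent.Horrocks.Dim
import Groth.Agent.NegTwist.Main

/-!
Twists on projective space, global generation and the generation lemma for modules without intermediate
cohomology.
-/

set_option autoImplicit false
set_option linter.style.haveILetI false
set_option backward.isDefEq.respectTransparency false

universe u

open CategoryTheory CategoryTheory.Limits AlgebraicGeometry TopologicalSpace Opposite
open Groth.Agent.QC (res resO res_res res_self res_smul app_res)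
open Groth.Agent.WeakAssLib

noncomputable section

namespace Groth.Agent.Horrocks

attribute [local instance] Abelian.hasFiniteBiproducts

variable {k : Type u} [Field k] {d : ℕ}

/-- `O(a)`. -/
abbrev Om (k : Type u) [Field k] (d : ℕ) (a : ℤ) : (CohB1.ProjSpace d k).Modules := Twist.twistProjSpace d k a

/-- `F(a)`. -/
abbrev tw (F : (CohB1.ProjSpace d k).Modules) (a : ℤ) : (CohB1.ProjSpace d k).Modules :=
  CohB1.tensorMod F (Om k d a)

theorem Om_zero : Nonempty (Om k d 0 ≅ Coh.structureModule (CohB1.ProjSpace d k)) :=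
  GrT.nonempty_twist_zero_iso (𝒜 := CohB1.polyGrading d k)

theorem tw_tw (F : (CohB1.ProjSpace d k).Modules) (a b c : ℤ) (h : a + b = c) :
    Nonempty (tw (tw F a) b ≅ tw F c) := by
  obtain ⟨e⟩ := RegCx.twist_twist (k := k) (n := d) a b c h
  exact ⟨TMul.assocIso _ _ _ ≪≫ PicGrp.tensorModIso (Iso.refl _) e⟩

theorem tw_zero (F : (CohB1.ProjSpace d k).Modules) : Nonempty (tw F 0 ≅ F) := by
  obtain ⟨e⟩ := Om_zero (k := k) (d := d)
  exact ⟨PicGrp.tensorModIso (Iso.refl _) e ≪≫ SecTwist.unitorR F⟩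

theorem isCoh_tw {F : (CohB1.ProjSpace d k).Modules} (hF : Coh.IsCoh F) (a : ℤ) : Coh.IsCoh (tw F a) :=
  CohFinite.isCoh_tensor hF (CohFinite.isInvertible_twist d k a)

theorem tP_iso : ∀ (m : ℕ) (M : (CohB1.ProjSpace d k).Modules) (a : ℤ), a = -(m : ℤ) →
    Nonempty (tP (Om k d (-1)) m M ≅ tw M a)
  | 0, M, a, h => (tw_zero M).map fun e => (eqToIso (by rw [h]; rfl) ≪≫ e).symm
  | m + 1, M, a, h => by
    obtain ⟨e⟩ := tP_iso m (tw M (-1)) (-(m : ℤ)) rfl
    obtain ⟨f⟩ := tw_tw M (-1) (-(m : ℤ)) a (by omega)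
    exact ⟨e ≪≫ f⟩

/-- No intermediate cohomology. -/
def Cond (F : (CohB1.ProjSpace d k).Modules) : Prop :=
  ∀ (n : ℤ) (i : ℕ), 0 < i → i < d → Subsingleton (Coh.HH _ (tw F n) i)

/-- No sections in very negative degrees. -/
def Low (F : (CohB1.ProjSpace d k).Modules) : Prop :=
  ∃ n₀ : ℤ, ∀ n ≤ n₀, Subsingleton (Coh.HH _ (tw F n) 0)

/-- The coordinates. -/
theorem exists_coords : ∃ l : List (Om k d (-1) ⟶ Coh.structureModule (CohB1.ProjSpace d k)),
    l.length = d + 1 ∧ ∀ x, ∃ τ ∈ l, UnitAt τ x := by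
  have h1 : (⊤ : (CohB1.ProjSpace d k).Opens) ≤ Proj.basicOpen (CohB1.polyGrading d k) (1 : MvPolynomial (Fin (d + 1)) k) :=
    (Proj.basicOpen_one _).ge
  obtain ⟨e₁⟩ := RegCx.twist_twist (k := k) (n := d) (-1) 1 0 (by norm_num)
  obtain ⟨e₀⟩ := Om_zero (k := k) (d := d)
  let s : ∀ i : Fin (d + 1), Coh.structureModule (CohB1.ProjSpace d k) ⟶ Om k d 1 := fun i =>
    TMul.homOf (GrT.twistGen (CohB1.polyGrading d k) (MvPolynomial.isHomogeneous_X k i)
      (SetLike.GradedOne.one_mem (A := CohB1.polyGrading d k)) (N := 1) (by norm_num) h1)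
  choose τ hτ using fun i => NegTwist.exists_locus_map (CohFinite.isInvertible_twist d k 1) (e₁ ≪≫ e₀) (s i)
  refine ⟨List.ofFn τ, List.length_ofFn, fun x => ?_⟩
  obtain ⟨i, hi⟩ := CohFinite.cov_X d k x
  have hxi : x ∈ Proj.basicOpen (CohB1.polyGrading d k) (MvPolynomial.X i.down) :=
    (ProjectiveSpectrum.mem_basicOpen _ _ x).mpr hi
  refine ⟨τ i.down, List.mem_ofFn.mpr ⟨_, rfl⟩, fun D g hg hx => (hτ i.down D g hg x hx).1 ?_⟩
  refine (TMul.mem_genLocus_iff _).mpr ⟨_, hxi, fun V hV => ?_⟩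
  have hb := GrT.twistGen_bijective (CohB1.polyGrading d k) (MvPolynomial.isHomogeneous_X k i.down)
    (SetLike.GradedOne.one_mem (A := CohB1.polyGrading d k)) (N := 1) (by norm_num)
    (U := Proj.basicOpen (CohB1.polyGrading d k) (MvPolynomial.X i.down)) le_rfl (le_top.trans h1) V hV
  have he : res (Om k d 1) hV (TMul.val (s i.down) _) = res (Om k d 1) hV (GrT.twistGen (CohB1.polyGrading d k)
      (MvPolynomial.isHomogeneous_X k i.down) (SetLike.GradedOne.one_mem (A := CohB1.polyGrading d k)) (N := 1)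
      (by norm_num) (le_top.trans h1)) := by
    rw [TMul.val_homOf]
    rfl
  rw [he]
  exact hb

/-! ### Global generation, stalkwise -/

/-- The submodule of the stalk spanned by global sections. -/
def genSub {X : Scheme.{u}} (G : X.Modules) (x : X) : Submodule (X.presheaf.stalk x) (G.presheaf.stalk x) :=
  Submodule.span (X.presheaf.stalk x) (Set.range fun w : Γ(G, ⊤) => mgerm G (show x ∈ (⊤ : X.Opens) from trivial) w)

/-- Generated by global sections. -/
def IsGen₀ {X : Scheme.{u}} (G : X.Modules) : Prop := ∀ x, genSub G x = ⊤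

theorem genSub_map {X : Scheme.{u}} {G H : X.Modules} (φ : G ⟶ H) (x : X) (v : G.presheaf.stalk x)
    (hv : v ∈ genSub G x) : stalkHom φ x v ∈ genSub H x := by
  induction hv using Submodule.span_induction with
  | mem v hv =>
    obtain ⟨w, rfl⟩ := hv
    show stalkHom φ x (mgerm G _ w) ∈ _
    rw [stalkHom_germ]
    exact Submodule.subset_span ⟨_, rfl⟩
  | zero => rw [map_zero]; exact Submodule.zero_mem _
  | add a b _ _ ha hb => rw [map_add]; exact Submodule.add_mem _ ha hb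
  | smul c a _ ha => rw [stalkHom_smul]; exact Submodule.smul_mem _ c ha

theorem IsGen₀.of_epi {X : Scheme.{u}} {G H : X.Modules} (φ : G ⟶ H) [Epi φ] (h : IsGen₀ G) : IsGen₀ H :=
  fun x => eq_top_iff.mpr fun v _ => by
    obtain ⟨w, rfl⟩ := (ModuleCat.epi_iff_surjective _).1
      (inferInstance : Epi ((DerSch.stalkFunctor X x).map φ)) v
    exact genSub_map φ x w ((h x).ge trivial)

theorem IsGen₀.descend {X : Scheme.{u}} {P : X.Modules} (hP : PicF.IsInvertible P)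
    (l : List (P ⟶ Coh.structureModule X)) (hl : ∀ x : X, ∃ τ ∈ l, UnitAt τ x) {G : X.Modules} (hG : IsGen₀ G)
    (hmul : ∀ t : Γ(G, ⊤), t ∈ AddSubgroup.closure
      {y : Γ(G, ⊤) | ∃ τ ∈ l, ∃ w, (mu τ G).app ⊤ w = y}) :
    IsGen₀ (CohB1.tensorMod G P) := by
  intro x
  obtain ⟨τ₀, -, hu⟩ := hl x
  obtain ⟨D, g, hxD, hg⟩ := TMul.exists_isGen hP x
  obtain ⟨Ψ, hΨ⟩ := NegTwist.exists_stalkEquiv (F := G) hxD hg
  have key : ∀ (τ : P ⟶ Coh.structureModule X) (v : G.presheaf.stalk x), stalkHom (mu τ G) x (Ψ v) =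
      X.presheaf.germ D x hxD (show Γ(X, D) from τ.app D g) • v := fun τ v => by
    obtain ⟨W, hW, s, rfl⟩ := G.presheaf.exists_germ_eq (x := x) v
    have hxWD : x ∈ W ⊓ D := ⟨hW, hxD⟩
    show stalkHom (mu τ G) x (Ψ (mgerm G hW s)) = _ • mgerm G hW s
    rw [← mgerm_res G (inf_le_left : W ⊓ D ≤ W) hxWD s, hΨ _ inf_le_right, stalkHom_germ, mu_tm, mgerm_smul,
      ← app_res τ (inf_le_right : W ⊓ D ≤ D) g]
    refine congrArg (· • _) ?_
    exact TopCat.Presheaf.germ_res_apply X.presheaf (homOfLE (inf_le_right : W ⊓ D ≤ D)) x hxWD _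
  let T : Submodule (X.presheaf.stalk x) (G.presheaf.stalk x) :=
    (genSub (CohB1.tensorMod G P) x).comap Ψ.toLinearMap
  have hT : ∀ t : Γ(G, ⊤), mgerm G (show x ∈ (⊤ : X.Opens) from trivial) t ∈ T := fun t => by
    induction hmul t using AddSubgroup.closure_induction with
    | mem y hy =>
      obtain ⟨τ, -, w, rfl⟩ := hy
      obtain ⟨v, hv⟩ := Ψ.surjective (mgerm (CohB1.tensorMod G P) (show x ∈ (⊤ : X.Opens) from trivial) w)
      have hvT : v ∈ T := by
        show Ψ v ∈ genSub _ x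
        rw [hv]; exact Submodule.subset_span ⟨w, rfl⟩
      rw [← stalkHom_germ, ← hv, key]
      exact T.smul_mem _ hvT
    | zero => rw [map_zero]; exact T.zero_mem
    | add a b _ _ ha hb => rw [map_add]; exact T.add_mem ha hb
    | neg a _ ha => rw [map_neg]; exact T.neg_mem ha
  have htop : T = ⊤ := top_le_iff.mp ((hG x).ge.trans (Submodule.span_le.mpr (by rintro _ ⟨t, rfl⟩; exact hT t)))
  refine eq_top_iff.mpr fun v _ => ?_
  obtain ⟨v', rfl⟩ := Ψ.surjective v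
  exact (htop.ge (trivial : v' ∈ ⊤))

variable (F : (CohB1.ProjSpace d k).Modules)

/-- One step of Castelnuovo–Mumford generation. -/
theorem mul_surjective (hd : 1 ≤ d) (hF : Coh.IsCoh F) (hC : Cond F) (c : ℤ)
    (htop : Subsingleton (Coh.HH _ (tw F (c - 1 - d)) d))
    (l : List (Om k d (-1) ⟶ Coh.structureModule (CohB1.ProjSpace d k))) (hll : l.length = d + 1)
    (hl : ∀ x, ∃ τ ∈ l, UnitAt τ x) (t : Γ(tw F c, ⊤)) :
    t ∈ AddSubgroup.closure {y : Γ(tw F c, ⊤) | ∃ τ ∈ l, ∃ w, (mu τ (tw F c)).app ⊤ w = y} := by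
  refine exists_mem_of_vanishing (CohFinite.isInvertible_twist d k (-1)) l hl (fun q hq hql => ?_)
    (AddSubgroup.closure {y : Γ(tw F c, ⊤) | ∃ τ ∈ l, ∃ w, (mu τ (tw F c)).app ⊤ w = y})
    (fun τ hτ w => AddSubgroup.subset_closure
      (show (mu τ (tw F c)).app ⊤ w ∈ {y : Γ(tw F c, ⊤) | ∃ σ ∈ l, ∃ v, (mu σ (tw F c)).app ⊤ v = y} from
        ⟨τ, hτ, w, rfl⟩)) t
  obtain ⟨e⟩ := tP_iso (k := k) (d := d) (q + 1) (tw F c) (-((q + 1 : ℕ) : ℤ)) rfl
  obtain ⟨f⟩ := tw_tw F c (-((q + 1 : ℕ) : ℤ)) (c - 1 - q) (by push_cast; ring)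
  refine CohQC.hh_subsingleton_of_iso (e ≪≫ f).symm q ?_
  rcases lt_trichotomy q d with h | rfl | h
  · exact hC _ q (by omega) h
  · exact htop
  · exact RegCx.hh_above F hF.1 _ q h

theorem subsingleton_gamma_iff (G : (CohB1.ProjSpace d k).Modules) :
    Subsingleton Γ(G, ⊤) ↔ Subsingleton (Coh.HH _ G 0) :=
  ⟨fun h => @Equiv.subsingleton _ _ (W7Cech.gsH0 k G).symm.toEquiv h,
    fun h => @Equiv.subsingleton _ _ (W7Cech.gsH0 k G).toEquiv h⟩

theorem h0_up (hd : 1 ≤ d) (hF : Coh.IsCoh F) (hC : Cond F) (c : ℤ)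
    (htop : Subsingleton (Coh.HH _ (tw F (c - 1 - d)) d)) (h : Subsingleton (Coh.HH _ (tw F (c - 1)) 0)) :
    Subsingleton (Coh.HH _ (tw F c) 0) := by
  obtain ⟨l, hll, hl⟩ := exists_coords (k := k) (d := d)
  refine (subsingleton_gamma_iff _).1 (subsingleton_of_forall_eq 0 fun t => ?_)
  obtain ⟨f⟩ := tw_tw F c (-1) (c - 1) (by ring)
  haveI := (subsingleton_gamma_iff _).2 (CohQC.hh_subsingleton_of_iso f.symm 0 h)
  refine AddSubgroup.mem_bot.mp ((AddSubgroup.closure_le (⊥ : AddSubgroup Γ(tw F c, ⊤))).2 ?_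
    (mul_surjective F hd hF hC c htop l hll hl t))
  rintro _ ⟨τ, -, w, rfl⟩
  show (mu τ (tw F c)).app ⊤ w = 0
  rw [Subsingleton.elim w 0, map_zero]

theorem gen_down (hd : 1 ≤ d) (hF : Coh.IsCoh F) (hC : Cond F) (c : ℤ)
    (htop : Subsingleton (Coh.HH _ (tw F (c - 1 - d)) d)) (h : IsGen₀ (tw F c)) : IsGen₀ (tw F (c - 1)) := by
  obtain ⟨l, hll, hl⟩ := exists_coords (k := k) (d := d)
  obtain ⟨f⟩ := tw_tw F c (-1) (c - 1) (by ring)
  exact (h.descend (CohFinite.isInvertible_twist d k (-1)) l hl (mul_surjective F hd hF hC c htop l hll hl)).of_epi f.hom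

theorem exists_gen_large (hF : Coh.IsCoh F) : ∃ N : ℕ, ∀ M, N ≤ M → IsGen₀ (tw F (M : ℤ)) := by
  obtain ⟨N, hN⟩ := GrT.exists_epi_twists
    (v := fun i : ProjCech.J.{u} d => (MvPolynomial.X i.down : MvPolynomial (Fin (d + 1)) k))
    (fun i => MvPolynomial.isHomogeneous_X k i.down) hF.1 hF.2 (CohFinite.cov_X d k)
  refine ⟨N, fun M hM => ?_⟩
  obtain ⟨m, q, hq⟩ := hN M hM
  obtain ⟨e⟩ := RegCx.twist_twist (k := k) (n := d) (-(M : ℤ)) (M : ℤ) 0 (by ring)
  obtain ⟨e₀⟩ := Om_zero (k := k) (d := d)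
  intro x
  refine eq_top_iff.mpr fun v _ => ?_
  obtain ⟨W, hxW, s, rfl⟩ := (tw F (M : ℤ)).presheaf.exists_germ_eq (x := x) v
  obtain ⟨D, g, hxD, hg⟩ := TMul.exists_isGen (CohFinite.isInvertible_twist d k (M : ℤ)) x
  obtain ⟨Ψ, hΨ⟩ := NegTwist.exists_stalkEquiv (F := F) hxD hg
  obtain ⟨u', hu⟩ := Ψ.surjective (mgerm (tw F (M : ℤ)) hxW s)
  obtain ⟨u, rfl⟩ := (ModuleCat.epi_iff_surjective _).1
    (inferInstance : Epi ((DerSch.stalkFunctor _ x).map q)) u'
  show mgerm (tw F (M : ℤ)) hxW s ∈ genSub (tw F (M : ℤ)) x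
  rw [← hu]
  clear hu
  haveI : HasFiniteBiproducts (CohB1.ProjSpace d k).Modules := Abelian.hasFiniteBiproducts
  let T : Fin m → (CohB1.ProjSpace d k).Modules := fun _ => Om k d (-(M : ℤ))
  let qb : ⨁ T ⟶ F := (biproduct.isoCoproduct T).hom ≫ q
  obtain ⟨u₂, hu₂⟩ := (ModuleCat.epi_iff_surjective _).1
    (inferInstance : Epi ((DerSch.stalkFunctor _ x).map (biproduct.isoCoproduct T).hom)) u
  have e2 : stalkHom q x u = ∑ j, stalkHom (biproduct.ι T j ≫ qb) x (stalkHom (biproduct.π T j) x u₂) := by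
    rw [show stalkHom q x u = stalkHom qb x u₂ by rw [sh_comp]; exact congrArg _ hu₂.symm]
    conv_lhs => rw [← sh_id (M := ⨁ T) x u₂, ← biproduct.total (f := T)]
    have hsum : ∀ (S : Finset (Fin m)), stalkHom qb x (stalkHom (∑ j ∈ S, biproduct.π T j ≫ biproduct.ι T j) x u₂) =
        ∑ j ∈ S, stalkHom (biproduct.ι T j ≫ qb) x (stalkHom (biproduct.π T j) x u₂) := fun S => by
      classical
      induction S using Finset.induction_on with
      | empty => rw [Finset.sum_empty, Finset.sum_empty, sh_zero, map_zero]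
      | insert a S ha ih => rw [Finset.sum_insert ha, Finset.sum_insert ha, sh_add, map_add, ih]; simp only [qb, sh_comp]
    exact hsum Finset.univ
  show Ψ (stalkHom q x u) ∈ _
  rw [e2, map_sum]
  refine Submodule.sum_mem _ fun j _ => ?_
  generalize stalkHom (biproduct.π T j) x u₂ = z
  generalize biproduct.ι T j ≫ qb = φ at *
  obtain ⟨Ψ', hΨ'⟩ := NegTwist.exists_stalkEquiv (F := Om k d (-(M : ℤ))) hxD hg
  have nat : Ψ (stalkHom φ x z) = stalkHom (CohFinite.tmap φ (Om k d (M : ℤ))) x (Ψ' z) := by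
    obtain ⟨W', hW', s', rfl⟩ := (Om k d (-(M : ℤ))).presheaf.exists_germ_eq (x := x) z
    have hxWD : x ∈ W' ⊓ D := ⟨hW', hxD⟩
    show Ψ (stalkHom φ x (mgerm _ hW' s')) = stalkHom _ x (Ψ' (mgerm _ hW' s'))
    rw [← mgerm_res _ (inf_le_left : W' ⊓ D ≤ W') hxWD s', stalkHom_germ, hΨ _ inf_le_right, hΨ' _ inf_le_right,
      stalkHom_germ, CohFinite.tmap_tm]
  rw [nat]
  refine genSub_map _ x _ ?_
  have hO : IsGen₀ (Coh.structureModule (CohB1.ProjSpace d k)) := fun y => eq_top_iff.mpr fun w _ => by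
    obtain ⟨V, hyV, r, rfl⟩ := (Coh.structureModule (CohB1.ProjSpace d k)).presheaf.exists_germ_eq (x := y) w
    have h1 : mgerm (Coh.structureModule (CohB1.ProjSpace d k)) hyV r =
        (CohB1.ProjSpace d k).presheaf.germ V y hyV r • mgerm (Coh.structureModule (CohB1.ProjSpace d k))
          (show y ∈ (⊤ : (CohB1.ProjSpace d k).Opens) from trivial) (1 : Γ(CohB1.ProjSpace d k, ⊤)) := by
      rw [← mgerm_res _ (le_top : V ≤ ⊤) hyV, ← mgerm_smul]
      refine congrArg (mgerm _ hyV) ?_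
      show r = HMul.hMul (α := Γ(CohB1.ProjSpace d k, V)) r (resO _ le_top 1)
      rw [map_one, mul_one]
    exact h1 ▸ Submodule.smul_mem _ _ (Submodule.subset_span ⟨(1 : Γ(CohB1.ProjSpace d k, ⊤)), rfl⟩)
  exact ((hO.of_epi (e ≪≫ e₀).inv) x).ge trivial

end Groth.Agent.Horrocks
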