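import Groth.Agent.Horrocks.Main
import Groth.Agent.NegTwist.Enriques
import Groth.Agent.LocFree.Props
import Groth.Agent.LocFree.SemiLocal
import Groth.Agent.GrT.Ample
import Groth.Agent.RefStalk.Refl
import Groth.Agent.H4Easy.Batch12
import Mathlib.Algebra.Category.ModuleCat.Biproducts

/-!
Vector bundles on projective space: rank of a sum of twists, vanishing in very negative degrees, sections on the line.
-/

set_option autoImplicit false
set_option linter.style.haveILetI false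
set_option backward.isDefEq.respectTransparency false

universe u

open CategoryTheory CategoryTheory.Limits AlgebraicGeometry TopologicalSpace Opposite
open Groth.Agent.WeakAssLib

noncomputable section

namespace Groth.Agent.Horrocks

attribute [local instance] Abelian.hasFiniteBiproducts

variable {k : Type u} [Field k] {n : ℕ}

instance additive_stalkFunctor {X : Scheme.{u}} (x : X) : (DerSch.stalkFunctor X x).Additive where
  map_add {M N φ ψ} := by
    ext v
    exact sh_add φ ψ x v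

theorem isCoh_of_locFree {E : (CohB1.ProjSpace n k).Modules} (hE : FlatMod.IsFinLocFree E) : Coh.IsCoh E :=
  ⟨LocFree.isQCoh_of_isFinLocFree hE, LocFree.isFT_of_isFinLocFree hE⟩

theorem maximalIdeal_stalk_ne_bot (hn : 1 ≤ n) {x : CohB1.ProjSpace n k}
    (hx : IsClosed ({x} : Set (CohB1.ProjSpace n k))) :
    IsLocalRing.maximalIdeal ((CohB1.ProjSpace n k).presheaf.stalk x) ≠ ⊥ := by
  haveI := isIntegral_projSpace (k := k) (n := n)
  have hne : x ≠ genericPoint (CohB1.ProjSpace n k) := fun h => by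
    haveI hs : Subsingleton (CohB1.ProjSpace n k) := ⟨fun a b => by
      have ha : ∀ c, c = x := fun c =>
        Set.mem_singleton_iff.mp ((h.symm ▸ genericPoint_specializes c : x ⤳ c).mem_closed hx rfl)
      rw [ha a, ha b]⟩
    have h1 := topologicalKrullDim_zero_of_discreteTopology (CohB1.ProjSpace n k)
    rw [Groth.Agent.S10829.result k n] at h1
    have : (n : WithBot ℕ∞) ≤ ((0 : ℕ) : WithBot ℕ∞) := by simpa using h1
    exact absurd (CartierDim.natCast_le_withBot.mp this) (by omega)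
  obtain ⟨U, hU, hxU, -⟩ := exists_isAffineOpen_mem_and_subset (x := x) (U := ⊤) trivial
  haveI : Nonempty U := ⟨⟨x, hxU⟩⟩
  have hp : (hU.primeIdealOf ⟨x, hxU⟩).asIdeal ≠ ⊥ := fun h => hne (by
    have he : hU.primeIdealOf ⟨x, hxU⟩ = genericPoint (Spec Γ(CohB1.ProjSpace n k, U)) := by
      rw [genericPoint_eq_bot_of_affine]
      exact PrimeSpectrum.ext h
    have h3 : hU.fromSpec (hU.primeIdealOf ⟨x, hxU⟩) = x := hU.fromSpec_primeIdealOf ⟨x, hxU⟩
    rw [← h3, he, ← hU.primeIdealOf_genericPoint, hU.fromSpec_primeIdealOf])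
  obtain ⟨f, hf, hf0⟩ := Submodule.exists_mem_ne_zero_of_ne_bot hp
  intro h
  have hm : (CohB1.ProjSpace n k).presheaf.germ U x hxU f ∈
      IsLocalRing.maximalIdeal ((CohB1.ProjSpace n k).presheaf.stalk x) := by
    rw [IsLocalRing.mem_maximalIdeal, mem_nonunits_iff, ← (CohB1.ProjSpace n k).mem_basicOpen f x hxU]
    have h3 : hU.fromSpec (hU.primeIdealOf ⟨x, hxU⟩) = x := hU.fromSpec_primeIdealOf ⟨x, hxU⟩
    rw [← h3]
    intro hmem
    have h1 : hU.primeIdealOf ⟨x, hxU⟩ ∈ hU.fromSpec ⁻¹ᵁ (CohB1.ProjSpace n k).basicOpen f := hmem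
    rw [hU.fromSpec_preimage_basicOpen] at h1
    exact h1 hf
  rw [h, Submodule.mem_bot] at hm
  exact hf0 (germ_injective_of_isIntegral _ x hxU (hm.trans (map_zero _).symm))

theorem not_isAssPoint_of_locFree (hn : 1 ≤ n) {E : (CohB1.ProjSpace n k).Modules} (hE : FlatMod.IsFinLocFree E)
    {x : CohB1.ProjSpace n k} (hx : IsClosed ({x} : Set (CohB1.ProjSpace n k))) : ¬ Curv2.IsAssPoint E x := by
  intro hass
  haveI : AlgebraicGeometry.IsNoetherian (CohB1.ProjSpace n k) := CohFinite.isNoetherian_projSpace n k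
  haveI := isIntegral_projSpace (k := k) (n := n)
  haveI := LocFree.free_stalk_of_isFinLocFree hE x
  obtain ⟨w, hw0, hw⟩ := NegTwist.exists_killed hass
  obtain ⟨c, hc, hc0⟩ := Submodule.exists_mem_ne_zero_of_ne_bot (maximalIdeal_stalk_ne_bot hn hx)
  exact hw0 ((smul_eq_zero.mp (hw c hc)).resolve_left hc0)

/-- Vector bundles have no sections in very negative degrees. -/
theorem low_of_locFree (hn : 1 ≤ n) {E : (CohB1.ProjSpace n k).Modules} (hE : FlatMod.IsFinLocFree E) : Low E := by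
  haveI := ProjMor.isProper_toSpec n k
  haveI : IsProper ((CohB1.ProjSpace n k) ↘ Spec (CommRingCat.of k)) := ProjMor.isProper_toSpec n k
  have hamp : CohB1.IsAmple (Om k n 1) := by
    haveI := CohFinite.isNoetherian_projSpace n k
    classical
    exact GrT.isAmple_twist_one (𝒜 := CohB1.polyGrading n k)
      (Finset.univ.image fun i : Fin (n + 1) => (MvPolynomial.X i : MvPolynomial (Fin (n + 1)) k))
      (fun f hf => by obtain ⟨i, -, rfl⟩ := Finset.mem_image.mp hf; exact MvPolynomial.isHomogeneous_X k i)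
      fun x => let ⟨i, hi⟩ := CohFinite.cov_X n k x; ⟨_, Finset.mem_image_of_mem _ (Finset.mem_univ i.down), hi⟩
  obtain ⟨e₁⟩ := RegCx.twist_twist (k := k) (n := n) 1 (-1) 0 (by norm_num)
  obtain ⟨e₀⟩ := Om_zero (k := k) (d := n)
  obtain ⟨n₀, hn₀⟩ := NegTwist.subsingleton_h0 k (Om k n 1) hamp (Om k n (-1)) ⟨e₁ ≪≫ e₀⟩ E (isCoh_of_locFree hE)
    fun x hx => not_isAssPoint_of_locFree hn hE hx
  refine ⟨-(n₀ : ℤ), fun m hm => ?_⟩
  obtain ⟨p, hp⟩ := Int.eq_ofNat_of_zero_le (show 0 ≤ -m by omega)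
  have key : ∀ q : ℕ, Nonempty (CohB1.tensorPow (Om k n (-1)) q ≅ Om k n (-(q : ℤ))) := fun q => by
    induction q with
    | zero => exact ⟨e₀.symm⟩
    | succ q ih =>
      obtain ⟨a⟩ := ih
      obtain ⟨b⟩ := RegCx.twist_twist (k := k) (n := n) (-(q : ℤ)) (-1) (-((q + 1 : ℕ) : ℤ)) (by push_cast; ring)
      exact ⟨PicGrp.tensorModIso a (Iso.refl _) ≪≫ b⟩
  obtain ⟨a⟩ := key p
  exact CohQC.hh_subsingleton_of_iso
    (PicGrp.tensorModIso (Iso.refl E) (a ≪≫ eqToIso (congrArg (Om k n) (by omega)))) 0 (hn₀ p (by omega))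

theorem nonempty_stalk_twist (a : ℤ) (x : CohB1.ProjSpace n k) :
    Nonempty ((CohB1.ProjSpace n k).presheaf.stalk x ≃ₗ[(CohB1.ProjSpace n k).presheaf.stalk x]
      (Om k n a).presheaf.stalk x) := by
  obtain ⟨D, g, hxD, hg⟩ := TMul.exists_isGen (CohFinite.isInvertible_twist n k a) x
  obtain ⟨Ψ, -⟩ := NegTwist.exists_stalkEquiv (F := Coh.structureModule (CohB1.ProjSpace n k)) hxD hg
  obtain ⟨e, -⟩ := RefStalk.exists_structStalk (X := CohB1.ProjSpace n k) x
  exact ⟨e.trans (Ψ.trans ((DerSch.stalkFunctor _ x).mapIso (TMul.leftUnitIso (Om k n a))).toLinearEquiv)⟩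

theorem rank_eq {r r' : ℕ} (T : Fin r' → (CohB1.ProjSpace n k).Modules) {E : (CohB1.ProjSpace n k).Modules}
    (hE : FlatMod.IsFinLocFreeOfRank r E) (e : E ≅ ∐ T) (x : CohB1.ProjSpace n k)
    (hT : ∀ i, Nonempty ((CohB1.ProjSpace n k).presheaf.stalk x ≃ₗ[(CohB1.ProjSpace n k).presheaf.stalk x]
      (T i).presheaf.stalk x)) : r' = r := by
  have hE' : FlatMod.IsFinLocFree E := fun y => let ⟨U, hy, hU⟩ := hE y; ⟨U, r, hy, hU⟩
  obtain ⟨W, hxW, ⟨eW⟩⟩ := hE x
  obtain ⟨b⟩ := LocFree.exists_basis_stalk eW (LocFree.isQCoh_of_isFinLocFree hE') hxW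
  have ψ := fun i => (hT i).some
  let φ : E.presheaf.stalk x ≃ₗ[(CohB1.ProjSpace n k).presheaf.stalk x]
      (Fin r' → (CohB1.ProjSpace n k).presheaf.stalk x) :=
    ((DerSch.stalkFunctor _ x).mapIso (e ≪≫ (biproduct.isoCoproduct T).symm) ≪≫
      (DerSch.stalkFunctor _ x).mapBiproduct T ≪≫
      ModuleCat.biproductIsoPi fun i => (DerSch.stalkFunctor _ x).obj (T i)).toLinearEquiv.trans
      (LinearEquiv.piCongrRight fun i => (ψ i).symm)
  have := Fintype.card_congr ((b.map φ).indexEquiv (Pi.basisFun _ _))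
  simpa using this.symm

/-- Sums of twists by their rank. -/
theorem exists_sum_of_rank {r : ℕ} {E : (CohB1.ProjSpace n k).Modules} (hE : FlatMod.IsFinLocFreeOfRank r E)
    (h : IsSum E) : ∃ a : Fin r → ℤ, Nonempty (E ≅ ∐ fun i => Twist.twistProjSpace n k (a i)) := by
  haveI := isIntegral_projSpace (k := k) (n := n)
  obtain ⟨r', a, ⟨e⟩⟩ := h
  obtain rfl := rank_eq (fun i => Twist.twistProjSpace n k (a i)) hE e (genericPoint _)
    fun i => nonempty_stalk_twist (a i) _
  exact ⟨a, ⟨e⟩⟩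

theorem cond_low_of_locFree (hn : 1 ≤ n) {E : (CohB1.ProjSpace n k).Modules} (hE : FlatMod.IsFinLocFree E)
    (h : Cond E) : IsSum E :=
  (isSum_iff hn E (isCoh_of_locFree hE)).mpr ⟨h, low_of_locFree hn hE⟩

theorem finrank_h0_coprod {r : ℕ} (T : Fin r → (CohB1.ProjSpace n k).Modules) (m : ℤ)
    [∀ i, Module.Finite k (Coh.HH _ (tw (T i) m) 0)] :
    Module.finrank k (Coh.HH _ (tw (∐ T) m) 0) = ∑ i, Module.finrank k (Coh.HH _ (tw (T i) m) 0) := by
  classical
  obtain ⟨e⟩ := tw_iso (biproduct.isoCoproduct T) m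
  rw [← (CohFinite.hhEquiv k e 0).finrank_eq, ← Module.finrank_pi_fintype]
  refine LinearEquiv.finrank_eq
    (LinearEquiv.ofLinear (LinearMap.pi fun i => CohFinite.hhMap k (CohFinite.tmap (biproduct.π T i) _) 0)
      (LinearMap.lsum k _ k fun i => CohFinite.hhMap k (CohFinite.tmap (biproduct.ι T i) _) 0) ?_ ?_)
  · refine LinearMap.pi_ext fun i v => funext fun j => ?_
    rw [LinearMap.comp_apply, LinearMap.lsum_piSingle, LinearMap.pi_apply, LinearMap.id_apply,
      ← CohFinite.hhMap_comp, ← CohFinite.tmap_comp]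
    by_cases hij : i = j
    · subst hij
      rw [biproduct.ι_π_self, CohFinite.tmap_id, CohFinite.hhMap_id, Pi.single_eq_same]
    · rw [biproduct.ι_π_ne _ hij, CohFinite.tmap_zero, hhMap_zero, Pi.single_eq_of_ne (Ne.symm hij)]
  · refine LinearMap.ext fun v => ?_
    rw [LinearMap.comp_apply, LinearMap.lsum_apply, LinearMap.sum_apply, LinearMap.id_apply]
    simp only [LinearMap.comp_apply, LinearMap.proj_apply, LinearMap.pi_apply, ← CohFinite.hhMap_comp,
      ← CohFinite.tmap_comp]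
    rw [← hhMap_sum, ← CohFinite.tmap_sum, biproduct.total, CohFinite.tmap_id, CohFinite.hhMap_id]

/-- Sections of twists on the line. -/
theorem finrank_h0_line (a m : ℤ) :
    (Module.finrank k (Coh.HH _ (tw (Om k 1 a) m) 0) : ℤ) = max (a + m + 1) 0 := by
  obtain ⟨e⟩ := RegCx.twist_twist (k := k) (n := 1) a m (a + m) rfl
  rw [(CohFinite.hhEquiv k e 0).finrank_eq]
  by_cases h : 0 ≤ a + m
  · obtain ⟨p, hp⟩ := Int.eq_ofNat_of_zero_le h
    rw [hp]
    obtain ⟨Z⟩ := ProjCech.zero_equiv (R := k) 1 p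
    rw [show Module.finrank k (Coh.HH _ (Om k 1 (p : ℤ)) 0) = p + 1 from
      Z.finrank_eq.trans (H4Easy.homogeneous_two_finrank k p).2]
    omega
  · haveI := ProjCech.twist_vanish (R := k) 1 (a + m) 0 (by omega) (by omega)
    rw [show Module.finrank k (Coh.HH _ (Om k 1 (a + m)) 0) = 0 from Module.finrank_zero_of_subsingleton]
    omega

theorem antitone_le_iff {r : ℕ} {d : Fin r → ℤ} (h : Antitone d) (c : ℤ) (i : Fin r) :
    c ≤ d i ↔ (i : ℕ) < (Finset.univ.filter fun j => c ≤ d j).card := by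
  constructor
  · intro hi
    have h1 : Finset.Iic i ⊆ Finset.univ.filter fun j => c ≤ d j := fun j hj =>
      Finset.mem_filter.mpr ⟨Finset.mem_univ j, hi.trans (h (Finset.mem_Iic.mp hj))⟩
    have := Finset.card_le_card h1
    rw [Fin.card_Iic] at this
    omega
  · intro hi
    by_contra hc
    have h1 : (Finset.univ.filter fun j => c ≤ d j) ⊆ Finset.Iio i := fun j hj => Finset.mem_Iio.mpr <| by
      by_contra hij
      exact hc ((Finset.mem_filter.mp hj).2.trans (h (not_lt.mp hij)))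
    have := Finset.card_le_card h1
    rw [Fin.card_Iio] at this
    omega

/-- **Splitting on the line, with uniqueness.** -/
theorem existsUnique_splitting {r : ℕ} {E : (CohB1.ProjSpace 1 k).Modules} (hE : FlatMod.IsFinLocFreeOfRank r E) :
    ∃! d : Fin r → ℤ, Antitone d ∧ Nonempty (E ≅ ∐ fun i : Fin r => Twist.twistProjSpace 1 k (d i)) := by
  classical
  have hE' : FlatMod.IsFinLocFree E := fun y => let ⟨U, hy, hU⟩ := hE y; ⟨U, r, hy, hU⟩
  obtain ⟨a, ⟨e⟩⟩ := exists_sum_of_rank hE (cond_low_of_locFree le_rfl hE' fun _ i h h' => absurd h' (by omega))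
  let σ : Equiv.Perm (Fin r) := Tuple.sort fun i => -a i
  have hmono : Monotone ((fun i => -a i) ∘ σ) := Tuple.monotone_sort _
  have e' : E ≅ ∐ fun i : Fin r => Twist.twistProjSpace 1 k (a (σ i)) :=
    e ≪≫ (Sigma.reindex σ fun i => Twist.twistProjSpace 1 k (a i)).symm
  refine ⟨fun i => a (σ i), ⟨fun i j hij => by simpa using hmono hij, ⟨e'⟩⟩, fun d ⟨hd, ⟨f⟩⟩ => ?_⟩
  have hrank : ∀ (b : Fin r → ℤ) (g : E ≅ ∐ fun i : Fin r => Twist.twistProjSpace 1 k (b i)) (m : ℤ),
      (Module.finrank k (Coh.HH _ (tw E m) 0) : ℤ) = ∑ i, max (b i + m + 1) 0 := fun b g m => by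
    obtain ⟨g'⟩ := tw_iso g m
    haveI : ∀ i, Module.Finite k (Coh.HH _ (tw (Twist.twistProjSpace 1 k (b i)) m) 0) := fun i =>
      CohFinite.finite_projSpace 1 k _ (isCoh_tw (CohFinite.isCoh_twist 1 k (b i)) m) 0
    rw [(CohFinite.hhEquiv k g' 0).finrank_eq, finrank_h0_coprod, Nat.cast_sum]
    exact Finset.sum_congr rfl fun i _ => finrank_h0_line (b i) m
  have hcount : ∀ (b : Fin r → ℤ) (c : ℤ), ((Finset.univ.filter fun j => c ≤ b j).card : ℤ) =
      ∑ i, max (b i + (-c) + 1) 0 - ∑ i, max (b i + (-c - 1) + 1) 0 := fun b c => by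
    rw [← Finset.sum_sub_distrib, Finset.card_filter, Nat.cast_sum]
    refine Finset.sum_congr rfl fun i _ => ?_
    split_ifs with h <;> push_cast <;> omega
  funext i
  have key : ∀ c, c ≤ d i ↔ c ≤ a (σ i) := fun c => by
    rw [antitone_le_iff hd, antitone_le_iff (d := fun i => a (σ i)) (fun i j hij => by simpa using hmono hij)]
    have h1 := hcount d c
    have h2 := hcount (fun i => a (σ i)) c
    rw [← hrank d f, ← hrank d f] at h1
    rw [← hrank _ e', ← hrank _ e'] at h2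
    omega
  exact le_antisymm ((key _).mp le_rfl) ((key _).mpr le_rfl)

end Groth.Agent.Horrocks
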