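import Groth.Agent.NegTwist.Stalk
import Groth.Agent.CohFinite.Serre
import Groth.Agent.KFlat.Pullback
import Groth.Agent.W7Hull.HomAdj
import Groth.Agent.ResDesc.CartierFam

/-!
The Koszul complex of a family of maps `τ : P ⟶ O`, and the lemma of Castelnuovo and Mumford on sections.
-/

set_option autoImplicit false
set_option linter.style.haveILetI false
set_option backward.isDefEq.respectTransparency false

universe u

open CategoryTheory CategoryTheory.Limits AlgebraicGeometry TopologicalSpace Opposite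
open Groth.Agent.QC (res resO res_res res_self res_smul app_res)
open Groth.Agent.WeakAssLib

noncomputable section

namespace Groth.Agent.Horrocks

attribute [local instance] Abelian.hasFiniteBiproducts

variable {X : Scheme.{u}} {P : X.Modules}

/-! ### Stalk maps -/

theorem sh_comp {M N Q : X.Modules} (φ : M ⟶ N) (ψ : N ⟶ Q) (x : X) (v : M.presheaf.stalk x) :
    stalkHom (φ ≫ ψ) x v = stalkHom ψ x (stalkHom φ x v) := by
  obtain ⟨W, hW, s, rfl⟩ := M.presheaf.exists_germ_eq (x := x) v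
  rw [stalkHom_germ, stalkHom_germ, stalkHom_germ]
  rfl

theorem sh_add {M N : X.Modules} (φ ψ : M ⟶ N) (x : X) (v : M.presheaf.stalk x) :
    stalkHom (φ + ψ) x v = stalkHom φ x v + stalkHom ψ x v := by
  obtain ⟨W, hW, s, rfl⟩ := M.presheaf.exists_germ_eq (x := x) v
  rw [stalkHom_germ, stalkHom_germ, stalkHom_germ, ← map_add]
  rfl

theorem sh_zero {M N : X.Modules} (x : X) (v : M.presheaf.stalk x) : stalkHom (0 : M ⟶ N) x v = 0 := by
  obtain ⟨W, hW, s, rfl⟩ := M.presheaf.exists_germ_eq (x := x) v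
  rw [stalkHom_germ]
  exact map_zero _

theorem sh_sub {M N : X.Modules} (φ ψ : M ⟶ N) (x : X) (v : M.presheaf.stalk x) :
    stalkHom (φ - ψ) x v = stalkHom φ x v - stalkHom ψ x v := by
  rw [eq_sub_iff_add_eq, ← sh_add, sub_add_cancel]

theorem sh_id {M : X.Modules} (x : X) (v : M.presheaf.stalk x) : stalkHom (𝟙 M) x v = v := by
  obtain ⟨W, hW, s, rfl⟩ := M.presheaf.exists_germ_eq (x := x) v
  rw [stalkHom_germ]
  rfl

theorem sh_split {A B : X.Modules} (x : X) (v : (A ⊞ B).presheaf.stalk x) :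
    stalkHom biprod.inl x (stalkHom (biprod.fst : A ⊞ B ⟶ A) x v) +
      stalkHom biprod.inr x (stalkHom (biprod.snd : A ⊞ B ⟶ B) x v) = v := by
  rw [← sh_comp, ← sh_comp, ← sh_add, biprod.total, sh_id]

theorem epi_of_stalk {M N : X.Modules} (φ : M ⟶ N) (h : ∀ x : X, Function.Surjective (stalkHom φ x)) : Epi φ := by
  refine InvGen.epi_of_locally _ fun U t x hx => ?_
  obtain ⟨v, hv⟩ := h x (mgerm N hx t)
  obtain ⟨W, hxW, s, rfl⟩ := M.presheaf.exists_germ_eq (x := x) v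
  have e : mgerm N hxW (φ.app W s) = mgerm N hx t := (stalkHom_germ φ hxW s).symm.trans hv
  obtain ⟨W', hxW', i, j, he⟩ := TopCat.Presheaf.germ_eq N.presheaf x hxW hx _ _ e
  exact ⟨W', j.le, hxW', res M i.le s, (app_res φ i.le s).symm.trans he⟩

/-! ### Multiplication by `τ` -/

/-- Multiplication `M ⊗ P ⟶ M` by `τ`. -/
def mu (τ : P ⟶ Coh.structureModule X) (M : X.Modules) : CohB1.tensorMod M P ⟶ M :=
  ((DCoh.tensorBi (X := X)).obj M).map τ ≫ (SecTwist.unitorR M).hom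

theorem mu_tm (τ : P ⟶ Coh.structureModule X) {M : X.Modules} {D : X.Opens} (m : Γ(M, D)) (g : Γ(P, D)) :
    (mu τ M).app D (TMul.tm m g) = (show Γ(X, D) from τ.app D g) • m :=
  (congrArg ((SecTwist.unitorR M).hom.app D) (W7Hull.map_tm M τ m g)).trans (ResDesc.unitorR_tm M m _)

theorem mu_natural (τ : P ⟶ Coh.structureModule X) {M N : X.Modules} (φ : M ⟶ N) :
    CohFinite.tmap φ P ≫ mu τ N = mu τ M ≫ φ :=
  TMul.hom_ext fun D m g => by
    show (mu τ N).app D ((CohFinite.tmap φ P).app D (TMul.tm m g)) = φ.app D ((mu τ M).app D (TMul.tm m g))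
    rw [CohFinite.tmap_tm, mu_tm, mu_tm, Scheme.Modules.Hom.app_smul]

/-- `τ` is a unit at `x`. -/
def UnitAt (τ : P ⟶ Coh.structureModule X) (x : X) : Prop :=
  ∀ (D : X.Opens) (g : Γ(P, D)), TMul.IsGen g → ∀ hx : x ∈ D,
    IsUnit (X.presheaf.germ D x hx (show Γ(X, D) from τ.app D g))

theorem mu_bijective (hP : PicF.IsInvertible P) {τ : P ⟶ Coh.structureModule X} {x : X} (hτ : UnitAt τ x)
    (M : X.Modules) : Function.Bijective (stalkHom (mu τ M) x) := by
  obtain ⟨D, g, hxD, hg⟩ := TMul.exists_isGen hP x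
  obtain ⟨Ψ, hΨ⟩ := NegTwist.exists_stalkEquiv (F := M) hxD hg
  have key : ∀ v, stalkHom (mu τ M) x (Ψ v) = X.presheaf.germ D x hxD (show Γ(X, D) from τ.app D g) • v := fun v => by
    obtain ⟨W, hW, s, rfl⟩ := M.presheaf.exists_germ_eq (x := x) v
    have hxWD : x ∈ W ⊓ D := ⟨hW, hxD⟩
    show stalkHom (mu τ M) x (Ψ (mgerm M hW s)) = _ • mgerm M hW s
    rw [← mgerm_res M (inf_le_left : W ⊓ D ≤ W) hxWD s, hΨ _ inf_le_right, stalkHom_germ, mu_tm, mgerm_smul,
      ← app_res τ (inf_le_right : W ⊓ D ≤ D) g]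
    refine congrArg (· • _) ?_
    exact TopCat.Presheaf.germ_res_apply X.presheaf (homOfLE (inf_le_right : W ⊓ D ≤ D)) x hxWD _
  obtain ⟨c, hc⟩ := hτ D g hg hxD
  have h : ⇑(stalkHom (mu τ M) x) ∘ ⇑Ψ = fun v => c • v := funext fun v => by
    rw [Function.comp_apply, key, ← hc]; rfl
  refine (Function.Bijective.of_comp_iff _ Ψ.bijective).1 ?_
  rw [h]
  exact MulAction.bijective c

theorem exists_tmap_stalk (hP : PicF.IsInvertible P) (x : X) :
    ∀ {M N : X.Modules} (φ : M ⟶ N), ∃ (ΨM : M.presheaf.stalk x → (CohB1.tensorMod M P).presheaf.stalk x)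
      (ΨN : N.presheaf.stalk x → (CohB1.tensorMod N P).presheaf.stalk x), Function.Bijective ΨM ∧
      Function.Bijective ΨN ∧ ΨN 0 = 0 ∧ ∀ v, stalkHom (CohFinite.tmap φ P) x (ΨM v) = ΨN (stalkHom φ x v) := by
  intro M N φ
  obtain ⟨D, g, hxD, hg⟩ := TMul.exists_isGen hP x
  obtain ⟨A, hA⟩ := NegTwist.exists_stalkEquiv (F := M) hxD hg
  obtain ⟨B, hB⟩ := NegTwist.exists_stalkEquiv (F := N) hxD hg
  refine ⟨A, B, A.bijective, B.bijective, map_zero B, fun v => ?_⟩
  obtain ⟨W, hW, s, rfl⟩ := M.presheaf.exists_germ_eq (x := x) v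
  have hxWD : x ∈ W ⊓ D := ⟨hW, hxD⟩
  show stalkHom _ x (A (mgerm M hW s)) = B (stalkHom φ x (mgerm M hW s))
  rw [← mgerm_res M (inf_le_left : W ⊓ D ≤ W) hxWD s, hA _ inf_le_right, stalkHom_germ, stalkHom_germ,
    hB _ inf_le_right, CohFinite.tmap_tm]

theorem tmap_surjective (hP : PicF.IsInvertible P) {M N : X.Modules} (φ : M ⟶ N) {x : X}
    (h : Function.Surjective (stalkHom φ x)) : Function.Surjective (stalkHom (CohFinite.tmap φ P) x) := by
  obtain ⟨A, B, -, hB, -, he⟩ := exists_tmap_stalk hP x φ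
  intro w
  obtain ⟨w', rfl⟩ := hB.2 w
  obtain ⟨v, rfl⟩ := h w'
  exact ⟨A v, he v⟩

theorem tmap_exact (hP : PicF.IsInvertible P) {M N Q : X.Modules} (φ : M ⟶ N) (ψ : N ⟶ Q) {x : X}
    (h : ∀ v, stalkHom ψ x v = 0 → ∃ w, stalkHom φ x w = v) (b : (CohB1.tensorMod N P).presheaf.stalk x)
    (hb : stalkHom (CohFinite.tmap ψ P) x b = 0) : ∃ b', stalkHom (CohFinite.tmap φ P) x b' = b := by
  obtain ⟨D, g, hxD, hg⟩ := TMul.exists_isGen hP x
  obtain ⟨A, hA⟩ := NegTwist.exists_stalkEquiv (F := M) hxD hg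
  obtain ⟨B, hB⟩ := NegTwist.exists_stalkEquiv (F := N) hxD hg
  obtain ⟨C, hC⟩ := NegTwist.exists_stalkEquiv (F := Q) hxD hg
  have nat : ∀ {M' N' : X.Modules} (χ : M' ⟶ N')
      (A' : M'.presheaf.stalk x ≃ₗ[X.presheaf.stalk x] (CohB1.tensorMod M' P).presheaf.stalk x)
      (B' : N'.presheaf.stalk x ≃ₗ[X.presheaf.stalk x] (CohB1.tensorMod N' P).presheaf.stalk x),
      (∀ (V : X.Opens) (hV : V ≤ D) (hx : x ∈ V) (n : Γ(M', V)),
        A' (mgerm M' hx n) = mgerm _ hx (TMul.tm n (res P hV g))) →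
      (∀ (V : X.Opens) (hV : V ≤ D) (hx : x ∈ V) (n : Γ(N', V)),
        B' (mgerm N' hx n) = mgerm _ hx (TMul.tm n (res P hV g))) →
      ∀ v, stalkHom (CohFinite.tmap χ P) x (A' v) = B' (stalkHom χ x v) := by
    intro M' N' χ A' B' hA' hB' v
    obtain ⟨W, hW, s, rfl⟩ := M'.presheaf.exists_germ_eq (x := x) v
    have hxWD : x ∈ W ⊓ D := ⟨hW, hxD⟩
    show stalkHom _ x (A' (mgerm M' hW s)) = B' (stalkHom χ x (mgerm M' hW s))
    rw [← mgerm_res M' (inf_le_left : W ⊓ D ≤ W) hxWD s, hA' _ inf_le_right, stalkHom_germ, stalkHom_germ,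
      hB' _ inf_le_right, CohFinite.tmap_tm]
  obtain ⟨v, rfl⟩ := B.surjective b
  rw [nat ψ B C hB hC, LinearEquiv.map_eq_zero_iff] at hb
  obtain ⟨w, rfl⟩ := h v hb
  exact ⟨A w, nat φ A B hA hB w⟩

/-! ### Koszul complexes -/

/-- An augmented complex over `F`. -/
structure Cx (F : X.Modules) where
  /-- The terms in positive degree. -/
  obj : ℕ → X.Modules
  /-- The augmentation. -/
  ε : obj 0 ⟶ F
  /-- The differentials. -/
  d : ∀ p, obj (p + 1) ⟶ obj p
  dε : d 0 ≫ ε = 0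
  dd : ∀ p, d (p + 1) ≫ d p = 0

variable {F : X.Modules}

/-- Exactness of an augmented complex at a point. -/
def Cx.Ex (C : Cx F) (x : X) : Prop :=
  Function.Surjective (stalkHom C.ε x) ∧
    (∀ v, stalkHom C.ε x v = 0 → ∃ w, stalkHom (C.d 0) x w = v) ∧
    ∀ p v, stalkHom (C.d p) x v = 0 → ∃ w, stalkHom (C.d (p + 1)) x w = v

/-- The terms after one more element. -/
def nextObj (C : Cx F) (P : X.Modules) : ℕ → X.Modules
  | 0 => C.obj 0 ⊞ CohB1.tensorMod F P
  | p + 1 => C.obj (p + 1) ⊞ CohB1.tensorMod (C.obj p) P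

/-- The differentials after one more element. -/
def nextD (C : Cx F) (τ : P ⟶ Coh.structureModule X) : ∀ p, nextObj C P (p + 1) ⟶ nextObj C P p
  | 0 => biprod.desc (C.d 0 ≫ biprod.inl)
      (mu τ (C.obj 0) ≫ biprod.inl - CohFinite.tmap C.ε P ≫ biprod.inr)
  | p + 1 => biprod.desc (C.d (p + 1) ≫ biprod.inl)
      (mu τ (C.obj (p + 1)) ≫ biprod.inl - CohFinite.tmap (C.d p) P ≫ biprod.inr)

/-- The complex with one more element. -/
def Cx.next (C : Cx F) (τ : P ⟶ Coh.structureModule X) : Cx F where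
  obj := nextObj C P
  ε := biprod.desc C.ε (mu τ F)
  d := nextD C τ
  dε := by
    refine biprod.hom_ext' _ _ ?_ ?_
    · show biprod.inl ≫ biprod.desc _ _ ≫ biprod.desc C.ε (mu τ F) = biprod.inl ≫ 0
      rw [biprod.inl_desc_assoc, Category.assoc, biprod.inl_desc, C.dε, comp_zero]
    · show biprod.inr ≫ biprod.desc _ _ ≫ biprod.desc C.ε (mu τ F) = biprod.inr ≫ 0
      rw [biprod.inr_desc_assoc, Preadditive.sub_comp, Category.assoc, biprod.inl_desc, Category.assoc,
        biprod.inr_desc, mu_natural, sub_self, comp_zero]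
  dd := fun p => by
    cases p <;>
    · refine biprod.hom_ext' _ _ ?_ ?_
      · simp only [nextD]
        rw [biprod.inl_desc_assoc, Category.assoc, biprod.inl_desc, ← Category.assoc, C.dd, zero_comp, comp_zero]
      · simp only [nextD]
        rw [biprod.inr_desc_assoc, Preadditive.sub_comp, Category.assoc, biprod.inl_desc, Category.assoc,
          biprod.inr_desc, Preadditive.comp_sub, ← Category.assoc (CohFinite.tmap _ P) (mu τ _), mu_natural,
          ← Category.assoc (CohFinite.tmap _ P) (CohFinite.tmap _ P), ← CohFinite.tmap_comp]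
        first | rw [C.dd] | rw [C.dε]
        rw [CohFinite.tmap_zero, zero_comp, sub_zero, Category.assoc, sub_self, comp_zero]

section Chase

variable (τ : P ⟶ Coh.structureModule X) {A B C' : X.Modules} (dA : A ⟶ B) (dB : B ⟶ C')

/-- The step of the diagram chase. -/
theorem chase {A₂ : X.Modules} (e : A₂ ⟶ A) (x : X) (hP : PicF.IsInvertible P) (hAe : e ≫ dA = 0)
    (h : UnitAt τ x ∨ ((∀ v, stalkHom dA x v = 0 → ∃ w, stalkHom e x w = v) ∧
      ∀ b, stalkHom (CohFinite.tmap dB P) x b = 0 → ∃ b', stalkHom (CohFinite.tmap dA P) x b' = b))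
    (v : (A ⊞ CohB1.tensorMod B P).presheaf.stalk x)
    (h₁ : stalkHom (biprod.desc dA (mu τ B)) x v = 0)
    (h₂ : stalkHom (biprod.snd ≫ CohFinite.tmap dB P) x v = 0) :
    ∃ w, stalkHom (biprod.desc (e ≫ biprod.inl) (mu τ A ≫ biprod.inl - CohFinite.tmap dA P ≫ biprod.inr) :
      A₂ ⊞ CohB1.tensorMod A P ⟶ A ⊞ CohB1.tensorMod B P) x w = v := by
  obtain ⟨a, rfl⟩ : ∃ a, a = v := ⟨v, rfl⟩
  set fa := stalkHom (biprod.fst : A ⊞ CohB1.tensorMod B P ⟶ A) x a with hfa
  set fb := stalkHom (biprod.snd : A ⊞ CohB1.tensorMod B P ⟶ _) x a with hfb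
  rw [sh_comp, ← hfb] at h₂
  have h₁' : stalkHom dA x fa + stalkHom (mu τ B) x fb = 0 := by
    rw [← h₁, hfa, hfb, biprod.desc_eq, sh_add, sh_comp, sh_comp]
  have hw : ∀ a₂ b', stalkHom (biprod.desc (e ≫ biprod.inl) (mu τ A ≫ biprod.inl - CohFinite.tmap dA P ≫ biprod.inr) :
      A₂ ⊞ CohB1.tensorMod A P ⟶ A ⊞ CohB1.tensorMod B P) x
      (stalkHom biprod.inl x a₂ + stalkHom biprod.inr x b') =
      stalkHom biprod.inl x (stalkHom e x a₂ + stalkHom (mu τ A) x b') -
        stalkHom biprod.inr x (stalkHom (CohFinite.tmap dA P) x b') := fun a₂ b' => by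
    rw [map_add, ← sh_comp, ← sh_comp, biprod.inl_desc, biprod.inr_desc, sh_sub, sh_comp, sh_comp, sh_comp, map_add]
    abel
  have hnat : ∀ b', stalkHom (mu τ B) x (stalkHom (CohFinite.tmap dA P) x b') =
      stalkHom dA x (stalkHom (mu τ A) x b') := fun b' => by
    rw [← sh_comp, ← sh_comp, mu_natural]
  suffices hs : ∃ a₂ b', stalkHom e x a₂ + stalkHom (mu τ A) x b' = fa ∧ stalkHom (CohFinite.tmap dA P) x b' = -fb by
    obtain ⟨a₂, b', e1, e2⟩ := hs
    exact ⟨_, (hw a₂ b').trans (by rw [e1, e2, map_neg, sub_neg_eq_add, hfa, hfb, sh_split])⟩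
  rcases h with hu | ⟨hA, hB⟩
  · obtain ⟨b', hb'⟩ := (mu_bijective hP hu A).2 fa
    refine ⟨0, b', by rw [map_zero, zero_add, hb'], (mu_bijective hP hu B).1 ?_⟩
    rw [hnat, hb', map_neg, eq_neg_iff_add_eq_zero]
    exact h₁'
  · obtain ⟨b', hb'⟩ := hB (-fb) (by rw [map_neg, h₂, neg_zero])
    obtain ⟨a₂, ha₂⟩ := hA (fa - stalkHom (mu τ A) x b') (by
      rw [map_sub, ← hnat, hb', map_neg, sub_neg_eq_add]; exact h₁')
    exact ⟨a₂, b', by rw [ha₂, sub_add_cancel], hb'⟩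

end Chase

theorem Cx.next_ex (hP : PicF.IsInvertible P) (C : Cx F) (τ : P ⟶ Coh.structureModule X) (x : X)
    (h : UnitAt τ x ∨ C.Ex x) : (C.next τ).Ex x := by
  refine ⟨fun v => ?_, fun v hv => ?_, fun p v hv => ?_⟩
  · rcases h with hu | hC
    · obtain ⟨b, rfl⟩ := (mu_bijective hP hu F).2 v
      exact ⟨stalkHom (biprod.inr : _ ⟶ C.obj 0 ⊞ CohB1.tensorMod F P) x b, by
        show stalkHom (biprod.desc C.ε (mu τ F)) x (stalkHom biprod.inr x b) = _
        rw [← sh_comp, biprod.inr_desc]⟩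
    · obtain ⟨a, rfl⟩ := hC.1 v
      exact ⟨stalkHom (biprod.inl : _ ⟶ C.obj 0 ⊞ CohB1.tensorMod F P) x a, by
        show stalkHom (biprod.desc C.ε (mu τ F)) x (stalkHom biprod.inl x a) = _
        rw [← sh_comp, biprod.inl_desc]⟩
  · refine chase τ C.ε (0 : F ⟶ F) (C.d 0) x hP C.dε
      (h.imp_right fun hC => ⟨hC.2.1, fun b _ => tmap_surjective hP C.ε hC.1 b⟩) v hv ?_
    rw [CohFinite.tmap_zero, comp_zero, sh_zero]
  · have key : ∀ {A₂ A B C' : X.Modules} (e : A₂ ⟶ A) (dA : A ⟶ B) (dB : B ⟶ C'),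
        (biprod.desc (dA ≫ biprod.inl) (mu τ B ≫ biprod.inl - CohFinite.tmap dB P ≫ biprod.inr) :
          A ⊞ CohB1.tensorMod B P ⟶ B ⊞ CohB1.tensorMod C' P) ≫ biprod.fst = biprod.desc dA (mu τ B) ∧
        (biprod.desc (dA ≫ biprod.inl) (mu τ B ≫ biprod.inl - CohFinite.tmap dB P ≫ biprod.inr) :
          A ⊞ CohB1.tensorMod B P ⟶ B ⊞ CohB1.tensorMod C' P) ≫ biprod.snd =
            -(biprod.snd ≫ CohFinite.tmap dB P) := fun e dA dB => by
      constructor <;> refine biprod.hom_ext' _ _ ?_ ?_ <;>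
        simp [Preadditive.sub_comp, Preadditive.comp_neg]
    cases p with
    | zero =>
      obtain ⟨k₁, k₂⟩ := key (C.d 1) (C.d 0) C.ε
      refine chase τ (C.d 0) C.ε (C.d 1) x hP (C.dd 0)
        (h.imp_right fun hC => ⟨hC.2.2 0, tmap_exact hP _ _ hC.2.1⟩) v ?_ ?_
      · rw [← k₁, sh_comp]; exact (congrArg _ hv).trans (map_zero _)
      · rw [← neg_neg (biprod.snd ≫ _), ← k₂, ← zero_sub (_ ≫ biprod.snd), sh_sub, sh_zero, sh_comp, zero_sub,
          neg_eq_zero]
        exact (congrArg _ hv).trans (map_zero _)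
    | succ p =>
      obtain ⟨k₁, k₂⟩ := key (C.d (p + 2)) (C.d (p + 1)) (C.d p)
      refine chase τ (C.d (p + 1)) (C.d p) (C.d (p + 2)) x hP (C.dd (p + 1))
        (h.imp_right fun hC => ⟨hC.2.2 (p + 1), tmap_exact hP _ _ (hC.2.2 p)⟩) v ?_ ?_
      · rw [← k₁, sh_comp]; exact (congrArg _ hv).trans (map_zero _)
      · rw [← neg_neg (biprod.snd ≫ _), ← k₂, ← zero_sub (_ ≫ biprod.snd), sh_sub, sh_zero, sh_comp, zero_sub,
          neg_eq_zero]
        exact (congrArg _ hv).trans (map_zero _)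

/-- The Koszul complex of a list. -/
def kos (F : X.Modules) : List (P ⟶ Coh.structureModule X) → Cx F
  | [] => { obj := fun _ => ⊥_ X.Modules, ε := initial.to F, d := fun _ => 𝟙 _,
            dε := initialIsInitial.hom_ext _ _, dd := fun _ => initialIsInitial.hom_ext _ _ }
  | τ :: l => (kos F l).next τ

theorem kos_ex (hP : PicF.IsInvertible P) (x : X) :
    ∀ l : List (P ⟶ Coh.structureModule X), (∃ τ ∈ l, UnitAt τ x) → (kos F l).Ex x
  | [], ⟨_, h, _⟩ => absurd h (List.not_mem_nil)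
  | σ :: l, ⟨τ, h, hu⟩ => Cx.next_ex hP _ σ x (by
      rcases List.mem_cons.mp h with rfl | h
      · exact Or.inl hu
      · exact Or.inr (kos_ex hP x l ⟨τ, h, hu⟩))

/-- Iterated twist by `P`. -/
def tP (P : X.Modules) : ℕ → X.Modules → X.Modules
  | 0, M => M
  | a + 1, M => tP P a (CohB1.tensorMod M P)

theorem hh_tP_split (q : ℕ) : ∀ (a : ℕ) (A B : X.Modules) (M : X.Modules) (i : A ⟶ M) (j : B ⟶ M) (p : M ⟶ A)
    (r : M ⟶ B), p ≫ i + r ≫ j = 𝟙 M → Subsingleton (Coh.HH X (tP P a A) q) → Subsingleton (Coh.HH X (tP P a B) q) →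
      Subsingleton (Coh.HH X (tP P a M) q)
  | 0, A, B, M, i, j, p, r, h, hA, hB => by
    refine CohFinite.subsingleton_of_split M (fun b : Fin 2 => ![A, B] b) (fun b => match b with | 0 => i | 1 => j)
      (fun b => match b with | 0 => p | 1 => r) ?_ q ?_
    · rw [Fin.sum_univ_two]; exact h
    · intro b; fin_cases b
      · exact hA
      · exact hB
  | a + 1, A, B, M, i, j, p, r, h, hA, hB =>
    hh_tP_split q a (CohB1.tensorMod A P) (CohB1.tensorMod B P) (CohB1.tensorMod M P) (CohFinite.tmap i P)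
      (CohFinite.tmap j P) (CohFinite.tmap p P) (CohFinite.tmap r P)
      (by rw [← CohFinite.tmap_comp, ← CohFinite.tmap_comp, ← CohFinite.tmap_add, h, CohFinite.tmap_id]) hA hB

theorem isZero_tP : ∀ (a : ℕ) (M : X.Modules), IsZero M → IsZero (tP P a M)
  | 0, _, h => h
  | a + 1, M, h => isZero_tP a _ (by
      rw [IsZero.iff_id_eq_zero, ← CohFinite.tmap_id, h.eq_zero_of_src (𝟙 M), CohFinite.tmap_zero])

theorem hh_kos (q : ℕ) : ∀ (l : List (P ⟶ Coh.structureModule X)) (p a : ℕ),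
    Subsingleton (Coh.HH X (tP P (a + p + 1) F) q) → Subsingleton (Coh.HH X (tP P a ((kos F l).obj p)) q)
  | [], p, a, _ => CohFinite.subsingleton_of_split _ (fun e : Fin 0 => e.elim0) (fun e => e.elim0) (fun e => e.elim0)
      ((isZero_tP a _ initialIsInitial.isZero).eq_of_src _ _) q fun e => e.elim0
  | σ :: l, 0, a, h => hh_tP_split q a ((kos F l).obj 0) (CohB1.tensorMod F P) _ biprod.inl biprod.inr biprod.fst
      biprod.snd biprod.total (hh_kos q l 0 a h) h
  | σ :: l, p + 1, a, h => hh_tP_split q a ((kos F l).obj (p + 1)) (CohB1.tensorMod ((kos F l).obj p) P) _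
      biprod.inl biprod.inr biprod.fst biprod.snd biprod.total (hh_kos q l (p + 1) a h)
      (hh_kos q l p (a + 1) (by rwa [show a + 1 + p + 1 = a + (p + 1) + 1 by omega]))

theorem isZero_kos : ∀ (l : List (P ⟶ Coh.structureModule X)) (p : ℕ), l.length ≤ p → IsZero ((kos F l).obj p)
  | [], _, _ => initialIsInitial.isZero
  | σ :: l, 0, h => absurd h (by simp)
  | σ :: l, p + 1, h => by
    have h' : l.length ≤ p := by simpa using h
    refine IsZero.of_iso ?_ (Iso.refl _)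
    show IsZero ((kos F l).obj (p + 1) ⊞ CohB1.tensorMod ((kos F l).obj p) P)
    exact (biprod_isZero_iff _ _).mpr ⟨isZero_kos l (p + 1) (by omega), isZero_tP 1 _ (isZero_kos l p h')⟩

theorem kos_image (S : AddSubgroup Γ(F, ⊤)) : ∀ (l : List (P ⟶ Coh.structureModule X)),
    (∀ τ ∈ l, ∀ w, (mu τ F).app ⊤ w ∈ S) → ∀ w, (kos F l).ε.app ⊤ w ∈ S
  | [], _, w => by
    have h0 : (kos F ([] : List (P ⟶ Coh.structureModule X))).ε = 0 := initialIsInitial.hom_ext _ _
    rw [h0]; exact zero_mem S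
  | σ :: l, h, w => by
    have e : (kos F (σ :: l)).ε = biprod.fst ≫ (kos F l).ε + biprod.snd ≫ mu σ F := biprod.desc_eq
    rw [e]
    exact add_mem (kos_image S l (fun τ hτ => h τ (List.mem_cons_of_mem _ hτ)) _) (h σ List.mem_cons_self _)

/-- Sections lift along an epimorphism whose kernel has no `H¹`. -/
theorem exists_section_lift {S : ShortComplex X.Modules} (hS : S.ShortExact)
    (h : Subsingleton (Coh.HH X S.X₁ 1)) (t : Γ(S.X₃, ⊤)) : ∃ w, S.g.app ⊤ w = t := by
  let e := fun M : X.Modules =>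
    ((Sheaf.H.equiv₀ (Coh.toAb M) (Limits.isTerminalTop (α := X.Opens))).symm : Γ(M, ⊤) ≃+ Coh.HH X M 0)
  obtain ⟨y, hy⟩ := (CohFinite.δH_eq_zero_iff (CohFinite.shortExact_toAb hS) 0 (e S.X₃ t)).1 (h.elim _ _)
  obtain ⟨w, rfl⟩ := (e S.X₂).surjective y
  refine ⟨w, (e S.X₃).injective (Eq.trans ?_ hy)⟩
  exact (Sheaf.H.equiv₀_symm_naturality (Limits.isTerminalTop (α := X.Opens))
    ((SheafOfModules.toSheaf X.ringCatSheaf).map S.g) _).symm

theorem shortExact_lift {A B C : X.Modules} (f : A ⟶ B) (g : B ⟶ C) (w : f ≫ g = 0)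
    [Epi (kernel.lift g f w)] : (ShortComplex.mk (kernel.ι f) (kernel.lift g f w)
      (by rw [← cancel_mono (kernel.ι g), Category.assoc, kernel.lift_ι, kernel.condition, zero_comp])).ShortExact := by
  refine { exact := ShortComplex.exact_of_f_is_kernel _ ?_, mono_f := inferInstance, epi_g := ‹_› }
  exact KernelFork.IsLimit.ofι' _ _ fun k hk => ⟨kernel.lift f k (by
    rw [← kernel.lift_ι g f w, ← Category.assoc, hk, zero_comp]), kernel.lift_ι _ _ _⟩

theorem epi_lift {A B C : X.Modules} (f : A ⟶ B) (g : B ⟶ C) (w : f ≫ g = 0)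
    (h : ∀ x v, stalkHom g x v = 0 → ∃ u, stalkHom f x u = v) : Epi (kernel.lift g f w) := by
  refine epi_of_stalk _ fun x z => ?_
  obtain ⟨u, hu⟩ := h x (stalkHom (kernel.ι g) x z) (by rw [← sh_comp, kernel.condition, sh_zero])
  refine ⟨u, stalkHom_injective (kernel.ι g) x ?_⟩
  rw [← sh_comp, kernel.lift_ι, hu]

/-- **Castelnuovo–Mumford.** If `H^q(F ⊗ P^(q+1)) = 0` for `q ≥ 1`, the sections of `F` are sums of
products of sections of `F ⊗ P` with the `τ`'s. -/
theorem exists_mem_of_vanishing (hP : PicF.IsInvertible P) (l : List (P ⟶ Coh.structureModule X))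
    (hl : ∀ x : X, ∃ τ ∈ l, UnitAt τ x)
    (hvan : ∀ q, 1 ≤ q → q ≤ l.length → Subsingleton (Coh.HH X (tP P (q + 1) F) q))
    (S : AddSubgroup Γ(F, ⊤)) (hS : ∀ τ ∈ l, ∀ w, (mu τ F).app ⊤ w ∈ S) (t : Γ(F, ⊤)) : t ∈ S := by
  let C := kos F l
  have hex : ∀ x, C.Ex x := fun x => kos_ex hP x l (hl x)
  have key : ∀ m p, l.length ≤ p + m → Subsingleton (Coh.HH X (kernel (C.d p)) (p + 2)) := by
    intro m
    induction m with
    | zero =>
      intro p hp
      have hz : IsZero (kernel (C.d p)) :=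
        IsZero.of_mono (kernel.ι (C.d p)) (isZero_kos l (p + 1) (by omega))
      exact CohFinite.subsingleton_of_split _ (fun e : Fin 0 => e.elim0) (fun e => e.elim0) (fun e => e.elim0)
        (hz.eq_of_src _ _) _ fun e => e.elim0
    | succ m ih =>
      intro p hp
      haveI := epi_lift (C.d (p + 1)) (C.d p) (C.dd p) fun x v hv => (hex x).2.2 p v hv
      refine CohFinite.subsingleton_of_shortExact (shortExact_lift (C.d (p + 1)) (C.d p) (C.dd p)) (p + 2) ?_
        (ih (p + 1) (by omega))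
      by_cases hp' : p + 2 < l.length
      · exact hh_kos (p + 2) l (p + 2) 0 (by rw [show 0 + (p + 2) + 1 = p + 2 + 1 by omega]; exact hvan _ (by omega) hp'.le)
      · exact CohFinite.subsingleton_of_split _ (fun e : Fin 0 => e.elim0) (fun e => e.elim0) (fun e => e.elim0)
          ((isZero_kos l (p + 2) (by omega)).eq_of_src _ _) _ fun e => e.elim0
  have hk : Subsingleton (Coh.HH X (kernel C.ε) 1) := by
    haveI := epi_lift (C.d 0) C.ε C.dε fun x v hv => (hex x).2.1 v hv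
    refine CohFinite.subsingleton_of_shortExact (shortExact_lift (C.d 0) C.ε C.dε) 1 ?_ (key l.length 0 (by omega))
    by_cases h1 : 1 < l.length
    · exact hh_kos 1 l 1 0 (hvan 1 le_rfl h1.le)
    · exact CohFinite.subsingleton_of_split _ (fun e : Fin 0 => e.elim0) (fun e => e.elim0) (fun e => e.elim0)
        ((isZero_kos l 1 (by omega)).eq_of_src _ _) _ fun e => e.elim0
  haveI : Epi C.ε := epi_of_stalk _ fun x => (hex x).1
  obtain ⟨w, rfl⟩ := exists_section_lift (S := ShortComplex.mk (kernel.ι C.ε) C.ε (kernel.condition C.ε))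
    { exact := ShortComplex.exact_of_f_is_kernel _ (kernelIsKernel C.ε) } hk t
  exact kos_image S l hS w

end Groth.Agent.Horrocks
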