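import Groth.Agent.Horrocks.Point
import Groth.Agent.RegDual.Scheme
import Groth.Agent.CohFinite.RPushCoh

/-!
Hilbert's syzygy theorem on projective space: resolutions by sums of twists.
-/

set_option autoImplicit false
set_option linter.style.haveILetI false
set_option backward.isDefEq.respectTransparency false

universe u

open CategoryTheory CategoryTheory.Limits AlgebraicGeometry TopologicalSpace Opposite

noncomputable section

namespace Groth.Agent.Horrocks

attribute [local instance] Abelian.hasFiniteBiproducts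

theorem exact_comp {C : Type*} [Category C] [Abelian C] {A B M N E : C} (p : A ⟶ B) [Epi p] (f : B ⟶ M)
    (g : M ⟶ N) (m : N ⟶ E) [Mono m] (w : f ≫ g = 0) (h : (ShortComplex.mk f g w).Exact) :
    (ShortComplex.mk (p ≫ f) (g ≫ m) (by rw [Category.assoc, reassoc_of% w, zero_comp, comp_zero])).Exact := by
  let φ : ShortComplex.mk (p ≫ f) g (by rw [Category.assoc, w, comp_zero]) ⟶ ShortComplex.mk f g w :=
    { τ₁ := p, τ₂ := 𝟙 _, τ₃ := 𝟙 _ }
  haveI : Epi φ.τ₁ := ‹Epi p›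
  haveI : IsIso φ.τ₂ := by dsimp [φ]; infer_instance
  haveI : Mono φ.τ₃ := by dsimp [φ]; infer_instance
  have h1 := (ShortComplex.exact_iff_of_epi_of_isIso_of_mono φ).2 h
  let ψ : ShortComplex.mk (p ≫ f) g (by rw [Category.assoc, w, comp_zero]) ⟶
      ShortComplex.mk (p ≫ f) (g ≫ m) (by rw [Category.assoc, reassoc_of% w, zero_comp, comp_zero]) :=
    { τ₁ := 𝟙 _, τ₂ := 𝟙 _, τ₃ := m }
  haveI : Epi ψ.τ₁ := by dsimp [ψ]; infer_instance
  haveI : IsIso ψ.τ₂ := by dsimp [ψ]; infer_instance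
  haveI : Mono ψ.τ₃ := ‹Mono m›
  exact (ShortComplex.exact_iff_of_epi_of_isIso_of_mono ψ).1 h1

theorem shortExact_kernel {X : Scheme.{u}} {A B : X.Modules} (f : A ⟶ B) [Epi f] :
    (ShortComplex.mk (kernel.ι f) f (kernel.condition f)).ShortExact :=
  { exact := ShortComplex.exact_of_f_is_kernel _ (kernelIsKernel f), mono_f := inferInstance, epi_g := ‹_› }

theorem sub_left₀ {X : Scheme.{u}} {S : ShortComplex X.Modules} (hS : S.ShortExact)
    (h : Subsingleton (Coh.HH X S.X₂ 0)) : Subsingleton (Coh.HH X S.X₁ 0) :=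
  ⟨fun a b => CohFinite.map_f_injective (CohFinite.shortExact_toAb hS) (h.elim _ _)⟩

variable {k : Type u} [Field k] {d : ℕ}

theorem sub_left (S : ShortComplex (CohB1.ProjSpace d k).Modules) (hS : S.ShortExact) (q : ℕ)
    (h : Subsingleton (Coh.HH _ S.X₂ (q + 1))) (hs : Function.Surjective (CohFinite.hhMap k S.g q)) :
    Subsingleton (Coh.HH _ S.X₁ (q + 1)) := by
  refine subsingleton_of_forall_eq 0 fun x => ?_
  obtain ⟨y, rfl⟩ := (CohFinite.map_f_eq_zero_iff (CohFinite.shortExact_toAb hS) q x).1 (h.elim _ _)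
  obtain ⟨z, hz⟩ := hs y
  exact (CohFinite.δH_eq_zero_iff (CohFinite.shortExact_toAb hS) q y).2 ⟨z, hz⟩

/-- `π` is surjective on sections in every degree. -/
def SurjDeg {P K : (CohB1.ProjSpace d k).Modules} (π : P ⟶ K) (j : ℤ) : Prop :=
  Function.Surjective (CohFinite.hhMap k (CohFinite.tmap π (Om k d j)) 0)

/-- `tmap` of an isomorphism. -/
def tIso {M N : (CohB1.ProjSpace d k).Modules} (e : M ≅ N) (Q : (CohB1.ProjSpace d k).Modules) :
    CohB1.tensorMod M Q ≅ CohB1.tensorMod N Q where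
  hom := CohFinite.tmap e.hom Q
  inv := CohFinite.tmap e.inv Q
  hom_inv_id := by rw [← CohFinite.tmap_comp, e.hom_inv_id, CohFinite.tmap_id]
  inv_hom_id := by rw [← CohFinite.tmap_comp, e.inv_hom_id, CohFinite.tmap_id]

/-- Every section of `K(j)` comes from a map `O(-j) → K`. -/
theorem exists_map_hit {K : (CohB1.ProjSpace d k).Modules} (j : ℤ) (x : Coh.HH _ (tw K j) 0) :
    ∃ ψ : Om k d (-j) ⟶ K, x ∈ LinearMap.range (CohFinite.hhMap k (CohFinite.tmap ψ (Om k d j)) 0) := by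
  obtain ⟨e₀⟩ := Om_zero (k := k) (d := d)
  obtain ⟨e₁⟩ := RegCx.twist_twist (k := k) (n := d) (-j) j 0 (by ring)
  obtain ⟨e₂⟩ := RegCx.twist_twist (k := k) (n := d) j (-j) 0 (by ring)
  obtain ⟨θ, hθ⟩ := exists_natural_untwist (e₁ ≪≫ e₀)
  obtain ⟨θ', -⟩ := exists_natural_untwist (e₂ ≪≫ e₀)
  let u : tw (Coh.structureModule (CohB1.ProjSpace d k)) (-j) ≅ Om k d (-j) := TMul.leftUnitIso _
  let g : tw K j ≅ tw K j := (θ (tw K j)).symm ≪≫ tIso (θ' K) (Om k d j)
  let a : tw (Om k d (-j)) j ≅ Coh.structureModule (CohB1.ProjSpace d k) :=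
    tIso u.symm (Om k d j) ≪≫ θ _
  obtain ⟨s, hs⟩ := (W7Cech.gsH0 k (tw K j)).surjective (CohFinite.hhMap k g.inv 0 x)
  refine ⟨u.inv ≫ CohFinite.tmap (TMul.homOf (show Γ(tw K j, ⊤) from s)) _ ≫ (θ' K).hom, ?_⟩
  have hh : CohFinite.tmap (u.inv ≫ CohFinite.tmap (TMul.homOf (show Γ(tw K j, ⊤) from s)) _ ≫ (θ' K).hom)
      (Om k d j) = a.hom ≫ TMul.homOf (show Γ(tw K j, ⊤) from s) ≫ g.hom := by
    have h1 := hθ (TMul.homOf (show Γ(tw K j, ⊤) from s))
    rw [← Iso.eq_comp_inv, Category.assoc] at h1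
    rw [CohFinite.tmap_comp, CohFinite.tmap_comp, h1]
    simp only [a, g, tIso, Iso.trans_hom, Iso.symm_hom, Category.assoc]
  rw [hh]
  refine ⟨CohFinite.hhMap k a.inv 0
    (W7Cech.gsH0 k _ (show Γ(CohB1.ProjSpace d k, ⊤) from 1)), ?_⟩
  rw [← CohFinite.hhMap_comp, a.inv_hom_id_assoc, CohFinite.hhMap_comp]
  have h2 : CohFinite.hhMap k (TMul.homOf (show Γ(tw K j, ⊤) from s)) 0
      (W7Cech.gsH0 k _ (show Γ(CohB1.ProjSpace d k, ⊤) from 1)) = W7Cech.gsH0 k _ s := by
    refine Eq.trans (W7Cech.gsH0_natural k (TMul.homOf (show Γ(tw K j, ⊤) from s)) _).symm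
      (congrArg (W7Cech.gsH0 k _) ?_)
    exact (TMul.app_eq_smul _ _).trans ((one_smul _ _).trans (TMul.val_homOf _ _ |>.trans (QC.res_self _ _ _)))
  rw [h2, hs, ← CohFinite.hhMap_comp, g.inv_hom_id, CohFinite.hhMap_id]

theorem isCoh_of_isSum {F : (CohB1.ProjSpace d k).Modules} (h : IsSum F) : Coh.IsCoh F := by
  obtain ⟨r, a, ⟨e⟩⟩ := h
  exact CohFinite.isCoh_of_iso (biproduct.isoCoproduct _ ≪≫ e.symm)
    (Devissage.isCoh_biproduct _ fun i => isCoh_of_locFree
      (ResDesc.isFinLocFree_of_isInvertible (CohFinite.isInvertible_twist d k (a i))))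

theorem shortExact_tmap_kernel {X : Scheme.{u}} {A B Q : X.Modules} (π : A ⟶ B) [Epi π]
    (hQ : PicF.IsInvertible Q) :
    (ShortComplex.mk (CohFinite.tmap (kernel.ι π) Q) (CohFinite.tmap π Q)
      (by rw [← CohFinite.tmap_comp, kernel.condition, CohFinite.tmap_zero])).ShortExact :=
  by
  have hS := shortExact_kernel π
  exact CohFinite.shortExact_tmap (S := ShortComplex.mk (kernel.ι π) π (kernel.condition π)) hQ hS

theorem isSum_consIso (j : ℤ) {P : (CohB1.ProjSpace d k).Modules} (h : IsSum P) : IsSum (Om k d j ⊞ P) :=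
  isSum_cons j (Iso.refl _) h

/-- An arbitrary cover by a sum of twists. -/
theorem exists_cover (K : (CohB1.ProjSpace d k).Modules) (hK : Coh.IsCoh K) :
    ∃ (P : (CohB1.ProjSpace d k).Modules) (π : P ⟶ K), IsSum P ∧ Epi π := by
  obtain ⟨N, hN⟩ := GrT.exists_epi_twists
    (v := fun i : ProjCech.J.{u} d => (MvPolynomial.X i.down : MvPolynomial (Fin (d + 1)) k))
    (fun i => MvPolynomial.isHomogeneous_X k i.down) hK.1 hK.2 (CohFinite.cov_X d k)
  obtain ⟨m, q, hq⟩ := hN N le_rfl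
  exact ⟨_, q, ⟨m, fun _ => -(N : ℤ), ⟨Iso.refl _⟩⟩, hq⟩

theorem surj_large {P K : (CohB1.ProjSpace d k).Modules} (π : P ⟶ K) [Epi π] (hP : Coh.IsCoh P)
    (hK : Coh.IsCoh K) : ∃ j₀ : ℤ, ∀ j, j₀ ≤ j → SurjDeg π j := by
  haveI := CohFinite.isNoetherian_projSpace d k
  obtain ⟨m₀, hm⟩ := CohFinite.vanish_projSpace_deg d k 0 (kernel π) (QC.isCoh_kernel hP hK.1 π)
  refine ⟨m₀, fun j hj => ?_⟩
  obtain ⟨p, rfl⟩ := Int.eq_ofNat_of_zero_le (show 0 ≤ j by omega)
  obtain ⟨e⟩ := GrT.nonempty_iso_tensorPow (𝒜 := CohB1.polyGrading d k) (CohFinite.cov_one d k) p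
  have h1 : Subsingleton (Coh.HH _ (tw (kernel π) (p : ℤ)) 1) :=
    CohQC.hh_subsingleton_of_iso (PicGrp.tensorModIso (Iso.refl (kernel π)) e).symm 1 (hm p (by omega))
  intro x
  exact (CohFinite.δH_eq_zero_iff (CohFinite.shortExact_toAb (shortExact_tmap_kernel π (CohFinite.isInvertible_twist d k (p : ℤ)))) 0 x).1 (h1.elim _ _)

/-- The image on sections grows when a twist is added. -/
theorem range_le {Q P K : (CohB1.ProjSpace d k).Modules} (ψ : Q ⟶ K) (π : P ⟶ K) (j : ℤ) :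
    LinearMap.range (CohFinite.hhMap k (CohFinite.tmap π (Om k d j)) 0) ≤
        LinearMap.range (CohFinite.hhMap k (CohFinite.tmap (biprod.desc ψ π) (Om k d j)) 0) ∧
      LinearMap.range (CohFinite.hhMap k (CohFinite.tmap ψ (Om k d j)) 0) ≤
        LinearMap.range (CohFinite.hhMap k (CohFinite.tmap (biprod.desc ψ π) (Om k d j)) 0) := by
  constructor <;> rintro _ ⟨y, rfl⟩
  · exact ⟨CohFinite.hhMap k (CohFinite.tmap biprod.inr _) 0 y, by
      rw [← CohFinite.hhMap_comp, ← CohFinite.tmap_comp, biprod.inr_desc]⟩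
  · exact ⟨CohFinite.hhMap k (CohFinite.tmap biprod.inl _) 0 y, by
      rw [← CohFinite.hhMap_comp, ← CohFinite.tmap_comp, biprod.inl_desc]⟩

/-- Adding finitely many sections to the image. -/
theorem exists_add {K P : (CohB1.ProjSpace d k).Modules} (π : P ⟶ K) (hP : IsSum P) [Epi π] (j : ℤ)
    (s : Finset (Coh.HH _ (tw K j) 0)) :
    ∃ (P' : (CohB1.ProjSpace d k).Modules) (π' : P' ⟶ K), IsSum P' ∧ Epi π' ∧
      (∀ i, LinearMap.range (CohFinite.hhMap k (CohFinite.tmap π (Om k d i)) 0) ≤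
        LinearMap.range (CohFinite.hhMap k (CohFinite.tmap π' (Om k d i)) 0)) ∧
      (s : Set (Coh.HH _ (tw K j) 0)) ⊆ (LinearMap.range (CohFinite.hhMap k (CohFinite.tmap π' (Om k d j)) 0) :
        Set _) := by
  classical
  induction s using Finset.induction_on with
  | empty => exact ⟨P, π, hP, ‹_›, fun i => le_rfl, by simp⟩
  | insert x s _ ih =>
    obtain ⟨P', π', hP', hπ', hle, hs⟩ := ih
    obtain ⟨ψ, hψ⟩ := exists_map_hit j x
    haveI : Epi (biprod.inr ≫ biprod.desc ψ π') := by rw [biprod.inr_desc]; exact hπ'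
    refine ⟨_, biprod.desc ψ π', isSum_consIso (-j) hP', epi_of_epi biprod.inr _,
      fun i => (hle i).trans (range_le ψ π' i).1, ?_⟩
    rw [Finset.coe_insert, Set.insert_subset_iff]
    exact ⟨(range_le ψ π' j).2 hψ, hs.trans (range_le ψ π' j).1⟩

/-- A cover by a sum of twists, surjective on sections in every degree. -/
theorem exists_cover_surj (K : (CohB1.ProjSpace d k).Modules) (hK : Coh.IsCoh K) (hL : Low K) :
    ∃ (P : (CohB1.ProjSpace d k).Modules) (π : P ⟶ K), IsSum P ∧ Epi π ∧ ∀ j, SurjDeg π j := by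
  classical
  obtain ⟨P₀, π₀, hP₀, hπ₀⟩ := exists_cover K hK
  obtain ⟨j₀, hj₀⟩ := surj_large π₀ (isCoh_of_isSum hP₀) hK
  obtain ⟨n₀, hn₀⟩ := hL
  suffices h : ∀ S : Finset ℤ, ∃ (P : (CohB1.ProjSpace d k).Modules) (π : P ⟶ K), IsSum P ∧ Epi π ∧
      (∀ i, LinearMap.range (CohFinite.hhMap k (CohFinite.tmap π₀ (Om k d i)) 0) ≤
        LinearMap.range (CohFinite.hhMap k (CohFinite.tmap π (Om k d i)) 0)) ∧
      ∀ i ∈ S, SurjDeg π i by
    obtain ⟨P, π, hP, hπ, hle, hS⟩ := h (Finset.Icc n₀ j₀)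
    refine ⟨P, π, hP, hπ, fun i => ?_⟩
    by_cases h1 : j₀ ≤ i
    · exact LinearMap.range_eq_top.1 (top_le_iff.1 ((LinearMap.range_eq_top.2 (hj₀ i h1)).ge.trans (hle i)))
    by_cases h2 : i ≤ n₀
    · haveI := hn₀ i h2
      exact fun x => ⟨0, Subsingleton.elim _ _⟩
    exact hS i (Finset.mem_Icc.2 ⟨by omega, by omega⟩)
  intro S
  induction S using Finset.induction_on with
  | empty => exact ⟨P₀, π₀, hP₀, hπ₀, fun i => le_rfl, by simp⟩
  | insert i S _ ih =>
    obtain ⟨P, π, hP, hπ, hle, hS⟩ := ih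
    haveI := CohFinite.finite_projSpace d k _ (isCoh_tw hK i) 0
    obtain ⟨s, hs⟩ := Module.Finite.fg_top (R := k) (M := Coh.HH _ (tw K i) 0)
    obtain ⟨P', π', hP', hπ', hle', hs'⟩ := exists_add π hP i s
    refine ⟨P', π', hP', hπ', fun l => (hle l).trans (hle' l), fun l hl => ?_⟩
    rcases Finset.mem_insert.1 hl with rfl | hl
    · exact LinearMap.range_eq_top.1 (top_le_iff.1 (hs.ge.trans (Submodule.span_le.2 hs')))
    · exact LinearMap.range_eq_top.1 (top_le_iff.1 ((LinearMap.range_eq_top.2 (hS l hl)).ge.trans (hle' l)))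

theorem isSum_point (K : (CohB1.ProjSpace 0 k).Modules) (hK : Coh.IsCoh K) : IsSum K := by
  haveI := ProjMor.isIso_toSpec_zero k
  haveI : Subsingleton (CohB1.ProjSpace 0 k) :=
    (Scheme.homeoOfIso (asIso (CohB1.ProjSpace.toSpec 0 k))).toEquiv.subsingleton
  haveI := isIntegral_projSpace (k := k) (n := 0)
  haveI := CohFinite.isNoetherian_projSpace 0 k
  have hE : FlatMod.IsFinLocFree K := RegDual.isFinLocFree_of_free_stalk hK fun x => by
    obtain rfl : x = genericPoint (CohB1.ProjSpace 0 k) := Subsingleton.elim _ _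
    have hf : IsField ((CohB1.ProjSpace 0 k).presheaf.stalk (genericPoint (CohB1.ProjSpace 0 k))) :=
      Field.toIsField (CohB1.ProjSpace 0 k).functionField
    letI := hf.toField
    exact Module.Free.of_divisionRing _ _
  obtain ⟨U, r, hU, he⟩ := hE (genericPoint _)
  have hr : FlatMod.IsFinLocFreeOfRank r K := fun y => ⟨U, Subsingleton.elim (genericPoint _) y ▸ hU, he⟩
  obtain ⟨a, ha⟩ := exists_sum_point hr
  exact ⟨r, a, ha⟩

/-- The invariant of the `j`-th syzygy. -/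
def Syz (j : ℕ) (K : (CohB1.ProjSpace d k).Modules) : Prop :=
  Coh.IsCoh K ∧ (1 ≤ j → Low K) ∧
    ∀ (m : ℤ) (i : ℕ), 0 < i → i < d → i < j → Subsingleton (Coh.HH _ (tw K m) i)

theorem Syz.isSum {j : ℕ} {K : (CohB1.ProjSpace d k).Modules} (h : Syz j K) (hj : d ≤ j) : IsSum K := by
  cases d with
  | zero => exact isSum_point K h.1
  | succ d =>
    exact (isSum_iff (by omega) K h.1).2 ⟨fun m i hi hid => h.2.2 m i hi hid (by omega), h.2.1 (by omega)⟩

theorem exists_step {j : ℕ} (K : (CohB1.ProjSpace d k).Modules) (h : Syz j K) :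
    ∃ (P : (CohB1.ProjSpace d k).Modules) (π : P ⟶ K), IsSum P ∧ Epi π ∧ (IsSum K → Mono π) ∧
      Syz (j + 1) (kernel π) := by
  haveI := CohFinite.isNoetherian_projSpace d k
  obtain ⟨P, π, hP, hπ, hm, hs⟩ : ∃ (P : (CohB1.ProjSpace d k).Modules) (π : P ⟶ K), IsSum P ∧ Epi π ∧
      (IsSum K → Mono π) ∧ (Low K → ∀ i, SurjDeg π i) := by
    by_cases hK : IsSum K
    · refine ⟨K, 𝟙 K, hK, inferInstance, fun _ => inferInstance, fun _ i x => ⟨x, ?_⟩⟩
      rw [CohFinite.tmap_id, CohFinite.hhMap_id]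
    · by_cases hL : Low K
      · obtain ⟨P, π, hP, hπ, hs⟩ := exists_cover_surj K h.1 hL
        exact ⟨P, π, hP, hπ, fun h => absurd h hK, fun _ => hs⟩
      · obtain ⟨P, π, hP, hπ⟩ := exists_cover K h.1
        exact ⟨P, π, hP, hπ, fun h => absurd h hK, fun h => absurd h hL⟩
  refine ⟨P, π, hP, hπ, hm, QC.isCoh_kernel (isCoh_of_isSum hP) h.1.1 π, fun _ => ?_, fun m i hi hid hij => ?_⟩
  · rcases Nat.eq_zero_or_pos d with rfl | hd
    · have : IsSum K := isSum_point K h.1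
      haveI := hm this
      exact ⟨0, fun m _ => subsingleton_of_forall_eq 0 fun x => by
        rw [← CohFinite.hhMap_id k _ 0 x, ← CohFinite.tmap_id, (IsZero.iff_id_eq_zero _).1 (isZero_kernel_of_mono π),
          CohFinite.tmap_zero, hhMap_zero]⟩
    · obtain ⟨n₀, hn₀⟩ := (cond_and_low_of_isSum hd hP).2
      exact ⟨n₀, fun m hm => sub_left₀ (shortExact_tmap_kernel π (CohFinite.isInvertible_twist d k m)) (hn₀ m hm)⟩
  · obtain ⟨q, rfl⟩ : ∃ q, i = q + 1 := ⟨i - 1, by omega⟩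
    refine sub_left _ (shortExact_tmap_kernel π (CohFinite.isInvertible_twist d k m)) q ((cond_and_low_of_isSum (by omega) hP).1 m (q + 1) hi hid) ?_
    rcases Nat.eq_zero_or_pos q with rfl | hq
    · exact hs (h.2.1 (by omega)) m
    · haveI := h.2.2 m q hq (by omega) (by omega)
      exact fun x => ⟨0, Subsingleton.elim _ _⟩

/-- **Hilbert's syzygy theorem** on projective space. -/
theorem exists_resolution (F : (CohB1.ProjSpace d k).Modules) (hF : Coh.IsCoh F) :
    ∃ (C : ChainComplex (CohB1.ProjSpace d k).Modules ℕ) (π : C.X 0 ⟶ F) (w : C.d 1 0 ≫ π = 0),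
      (∀ i : ℕ, d + 1 < i → IsZero (C.X i)) ∧ (∀ i : ℕ, IsSum (C.X i)) ∧
      (∀ i : ℕ, 1 ≤ i → IsZero (C.homology i)) ∧ Epi π ∧ (ShortComplex.mk (C.d 1 0) π w).Exact := by
  choose P π hP hπ hm hsyz using fun (x : Σ' (j : ℕ) (K : (CohB1.ProjSpace d k).Modules), Syz j K) =>
    exists_step x.2.1 x.2.2
  let R : ℕ → Σ' (j : ℕ) (K : (CohB1.ProjSpace d k).Modules), Syz j K := fun n => Nat.rec
    ⟨0, F, hF, fun h => absurd h (by omega), fun m i hi hid hij => absurd hij (by omega)⟩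
    (fun _ x => ⟨x.1 + 1, kernel (π x), hsyz x⟩) n
  have hR : ∀ n, (R n).1 = n := fun n => by
    induction n with
    | zero => rfl
    | succ n ih => exact congrArg (· + 1) ih
  let X : ℕ → (CohB1.ProjSpace d k).Modules := fun n => P (R n)
  let p : ∀ n, X (n + 1) ⟶ kernel (π (R n)) := fun n => π (R (n + 1))
  haveI : ∀ n, Epi (p n) := fun n => hπ (R (n + 1))
  let δ : ∀ n, X (n + 1) ⟶ X n := fun n => p n ≫ kernel.ι (π (R n))
  have hk : ∀ n, kernel.ι (π (R (n + 1))) ≫ p n = 0 := fun n => kernel.condition _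
  have hsq : ∀ n, δ (n + 1) ≫ δ n = 0 := fun n => by
    show (p (n + 1) ≫ kernel.ι (π (R (n + 1)))) ≫ p n ≫ kernel.ι (π (R n)) = 0
    rw [Category.assoc, reassoc_of% hk n, zero_comp, comp_zero]
  have hd1 : (ChainComplex.of X δ hsq).d 1 0 = δ 0 := ChainComplex.of_d X δ 0
  have hz : ∀ n, d ≤ n → IsZero (kernel (π (R n))) := fun n hn => by
    haveI := hm (R n) ((R n).2.2.isSum (by rw [hR]; exact hn))
    exact isZero_kernel_of_mono _
  refine ⟨ChainComplex.of X δ hsq, π (R 0), ?_, fun i hi => ?_, fun i => hP (R i), fun i hi => ?_, hπ (R 0), ?_⟩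
  · rw [hd1]
    show (p 0 ≫ kernel.ι (π (R 0))) ≫ π (R 0) = 0
    rw [Category.assoc, kernel.condition, comp_zero]
  · obtain ⟨n, rfl⟩ : ∃ n, i = n + 1 := ⟨i - 1, by omega⟩
    haveI : Mono (p n) := hm (R (n + 1)) ((R (n + 1)).2.2.isSum (by have := hR (n + 1); omega))
    exact IsZero.of_mono (p n) (hz n (by omega))
  · obtain ⟨n, rfl⟩ : ∃ n, i = n + 1 := ⟨i - 1, by omega⟩
    refine HomologicalComplex.ExactAt.isZero_homology ?_
    rw [HomologicalComplex.exactAt_iff' _ (n + 2) (n + 1) n (by simp) (by simp)]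
    have h := exact_comp (p (n + 1)) (kernel.ι (π (R (n + 1)))) (p n) (kernel.ι (π (R n))) (hk n)
      (ShortComplex.exact_of_f_is_kernel _ (kernelIsKernel (π (R (n + 1)))))
    refine ShortComplex.exact_of_iso ?_ h
    refine ShortComplex.isoMk (Iso.refl _) (Iso.refl _) (Iso.refl _) ?_ ?_
    · exact (Category.id_comp _).trans ((ChainComplex.of_d X δ (n + 1)).trans (Category.comp_id _).symm)
    · exact (Category.id_comp _).trans ((ChainComplex.of_d X δ n).trans (Category.comp_id _).symm)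
  · have h := exact_comp (p 0) (kernel.ι (π (R 0))) (π (R 0)) (𝟙 F) (kernel.condition _)
      (ShortComplex.exact_of_f_is_kernel _ (kernelIsKernel (π (R 0))))
    refine ShortComplex.exact_of_iso ?_ h
    refine ShortComplex.isoMk (Iso.refl _) (Iso.refl _) (Iso.refl _) ?_ ?_
    · exact (Category.id_comp _).trans (hd1.trans (Category.comp_id _).symm)
    · exact (Category.id_comp _).trans ((Category.comp_id _).symm.trans (Category.comp_id _).symm)

end Groth.Agent.Horrocks
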