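import Groth.Agent.Horrocks.Basic
import Groth.Agent.NegTwist.H1

/-!
A module generated by global sections with top cohomology in degree `-1-d` has `O` as a direct summand.
-/

set_option autoImplicit false
set_option linter.style.haveILetI false
set_option backward.isDefEq.respectTransparency false

universe u

open CategoryTheory CategoryTheory.Limits AlgebraicGeometry TopologicalSpace Opposite
open Groth.Agent.QC (res resO res_res res_self res_smul app_res)
open Groth.Agent.WeakAssLib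

noncomputable section

namespace Groth.Agent.Horrocks

attribute [local instance] Abelian.hasFiniteBiproducts

variable {k : Type u} [Field k] {d : ℕ}

local notation "𝐏" => CohB1.ProjSpace d k

theorem hhMap_zero {M N : (CohB1.ProjSpace d k).Modules} (q : ℕ) (x : Coh.HH _ M q) :
    CohFinite.hhMap k (0 : M ⟶ N) q x = 0 := by
  have h := NegTwist.hhMap_add k (0 : M ⟶ N) 0 q x
  rw [add_zero] at h
  exact left_eq_add.mp h

theorem hhMap_sum {M N : (CohB1.ProjSpace d k).Modules} {ι : Type*} (S : Finset ι) (φ : ι → (M ⟶ N)) (q : ℕ)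
    (x : Coh.HH _ M q) : CohFinite.hhMap k (∑ i ∈ S, φ i) q x = ∑ i ∈ S, CohFinite.hhMap k (φ i) q x :=
  map_sum (AddMonoidHom.mk' (fun ψ : M ⟶ N => CohFinite.hhMap k ψ q x) fun a b => NegTwist.hhMap_add k a b q x) φ S

/-- `H^d(O(-1-d))` is a line. -/
theorem exists_top_line :
    ∃ e : Coh.HH _ (tw (Coh.structureModule (CohB1.ProjSpace d k)) (-1 - (d : ℤ))) d, e ≠ 0 ∧
      ∀ y, ∃ t : k, y = t • e := by
  obtain ⟨E₀⟩ := ProjCech.top_equiv (R := k) d 0
  let E : Coh.HH _ (tw (Coh.structureModule (CohB1.ProjSpace d k)) (-1 - (d : ℤ))) d ≃ₗ[k]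
      ↥(MvPolynomial.homogeneousSubmodule (Fin (d + 1)) k 0) :=
    (CohFinite.hhEquiv k (TMul.leftUnitIso (Om k d (-1 - (d : ℤ))) ≪≫
      eqToIso (congrArg (Om k d) (show -1 - (d : ℤ) = -((d : ℤ) + 1 + ((0 : ℕ) : ℤ)) by push_cast; ring))) d).trans E₀
  let one : ↥(MvPolynomial.homogeneousSubmodule (Fin (d + 1)) k 0) := ⟨1, MvPolynomial.isHomogeneous_one _ _⟩
  refine ⟨E.symm one, fun h => ?_, fun y => ?_⟩
  · exact one_ne_zero (congrArg Subtype.val ((E.symm.map_eq_zero_iff).mp h))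
  · have hy : (E y : MvPolynomial (Fin (d + 1)) k) ∈ (1 : Submodule k (MvPolynomial (Fin (d + 1)) k)) :=
      (le_of_eq (MvPolynomial.homogeneousSubmodule_zero (Fin (d + 1)))) (E y).2
    obtain ⟨t, ht⟩ := Submodule.mem_one.mp hy
    refine ⟨t, E.injective ?_⟩
    rw [map_smul, LinearEquiv.apply_symm_apply]
    exact Subtype.ext (ht.symm.trans (Algebra.algebraMap_eq_smul_one t))

/-- A finite presentation by copies of `O`. -/
theorem exists_epi_of_gen {G : (CohB1.ProjSpace d k).Modules} (hG : Coh.IsCoh G) (hgen : IsGen₀ G) :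
    ∃ (m : ℕ) (π : (⨁ fun _ : Fin m => Coh.structureModule (CohB1.ProjSpace d k)) ⟶ G), Epi π := by
  haveI := CohFinite.finite_projSpace d k G hG 0
  haveI : Module.Finite k ((CohIII.globalSectionsA k).obj G) := Module.Finite.equiv (W7Cech.gsH0L k G).symm
  obtain ⟨m, s, hs⟩ := Module.Finite.exists_fin (R := k) (M := (CohIII.globalSectionsA k).obj G)
  let π : (⨁ fun _ : Fin m => Coh.structureModule (CohB1.ProjSpace d k)) ⟶ G :=
    biproduct.desc fun i => TMul.homOf (show Γ(G, ⊤) from s i)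
  refine ⟨m, π, epi_of_stalk π fun x v => ?_⟩
  have key : ∀ w : ((CohIII.globalSectionsA k).obj G), ∃ u, stalkHom π x u =
      mgerm G (show x ∈ (⊤ : (CohB1.ProjSpace d k).Opens) from trivial) (show Γ(G, ⊤) from w) := fun w => by
    have hw : w ∈ Submodule.span k (Set.range s) := hs ▸ trivial
    induction hw using Submodule.span_induction with
    | mem a ha =>
      obtain ⟨i, rfl⟩ := ha
      refine ⟨stalkHom (biproduct.ι (fun _ : Fin m => Coh.structureModule (CohB1.ProjSpace d k)) i) x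
        (mgerm (Coh.structureModule (CohB1.ProjSpace d k)) (show x ∈ (⊤ : (CohB1.ProjSpace d k).Opens) from trivial)
          (1 : Γ(CohB1.ProjSpace d k, ⊤))), ?_⟩
      rw [← sh_comp, biproduct.ι_desc, stalkHom_germ, TMul.app_eq_smul, one_smul, TMul.val_homOf, res_self]
    | zero => exact ⟨0, (map_zero _).trans (map_zero _).symm⟩
    | add a b _ _ ha hb =>
      obtain ⟨u, hu⟩ := ha
      obtain ⟨v, hv⟩ := hb
      exact ⟨u + v, (map_add _ u v).trans ((congrArg₂ (· + ·) hu hv).trans (map_add _ _ _).symm)⟩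
    | smul c a _ ha =>
      obtain ⟨u, hu⟩ := ha
      refine ⟨(CohB1.ProjSpace d k).presheaf.germ ⊤ x trivial
        (Coh.toGlobal ((CohB1.ProjSpace d k) ↘ Spec (CommRingCat.of k)) c) • u, ?_⟩
      rw [stalkHom_smul, hu, ← mgerm_smul]
      refine congrArg (mgerm G _) ?_
      exact congrArg (fun r : Γ(CohB1.ProjSpace d k, ⊤) => r • (show Γ(G, ⊤) from a))
        (Groth.Agent.QC.resO_self le_rfl _).symm
  induction (hgen x).ge (trivial : v ∈ ⊤) using Submodule.span_induction with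
  | mem a ha => obtain ⟨w, rfl⟩ := ha; exact key w
  | zero => exact ⟨0, map_zero _⟩
  | add a b _ _ ha hb =>
    obtain ⟨u, hu⟩ := ha
    obtain ⟨v, hv⟩ := hb
    exact ⟨u + v, (map_add _ u v).trans (congrArg₂ (· + ·) hu hv)⟩
  | smul c a _ ha =>
    obtain ⟨u, hu⟩ := ha
    exact ⟨c • u, (stalkHom_smul π x c u).trans (congrArg (c • ·) hu)⟩

theorem split_off (hd : 1 ≤ d) {G : (CohB1.ProjSpace d k).Modules} (hG : Coh.IsCoh G) (hgen : IsGen₀ G)
    (hne : ¬ Subsingleton (Coh.HH _ (tw G (-1 - (d : ℤ))) d)) :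
    ∃ G' : (CohB1.ProjSpace d k).Modules, Coh.IsCoh G' ∧
      Nonempty (G ≅ Coh.structureModule (CohB1.ProjSpace d k) ⊞ G') := by
  classical
  haveI : AlgebraicGeometry.IsNoetherian (CohB1.ProjSpace d k) := CohFinite.isNoetherian_projSpace d k
  obtain ⟨m, π, hπ⟩ := exists_epi_of_gen hG hgen
  let O := Coh.structureModule (CohB1.ProjSpace d k)
  let B := ⨁ fun _ : Fin m => O
  let a : ℤ := -1 - (d : ℤ)
  obtain ⟨e, he, hline⟩ := exists_top_line (k := k) (d := d)
  have hO : Coh.IsCoh O := ⟨QC.isQCoh_unit _, TMul.isFT_structureModule _⟩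
  have hB : Coh.IsCoh B := Devissage.isCoh_biproduct _ fun _ => hO
  have hS : (ShortComplex.mk (kernel.ι π) π (kernel.condition π)).ShortExact :=
    { exact := ShortComplex.exact_of_f_is_kernel _ (kernelIsKernel π), mono_f := inferInstanceAs (Mono (kernel.ι π)), epi_g := hπ }
  have hK : Coh.IsQCoh (kernel π) := QC.isQCoh_kernel hB.1 hG.1 π
  have hsurj : Function.Surjective (CohFinite.hhMap k (CohFinite.tmap π (Om k d a)) d) := fun w =>
    (CohFinite.δH_eq_zero_iff (CohFinite.shortExact_toAb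
      (CohFinite.shortExact_tmap (CohFinite.isInvertible_twist d k a) hS)) d w).1
      ((RegCx.hh_above (kernel π) hK a (d + 1) (Nat.lt_succ_self d)).elim _ _)
  choose t ht using fun (i : Fin m) (y : Coh.HH _ (tw B a) d) =>
    hline (CohFinite.hhMap k (CohFinite.tmap (biproduct.π (fun _ : Fin m => O) i) (Om k d a)) d y)
  let v : Fin m → Coh.HH _ (tw G a) d := fun i =>
    CohFinite.hhMap k (CohFinite.tmap (biproduct.ι (fun _ : Fin m => O) i ≫ π) (Om k d a)) d e
  have hy : ∀ y, CohFinite.hhMap k (CohFinite.tmap π (Om k d a)) d y = ∑ i, t i y • v i := fun y => by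
    have h1 : CohFinite.tmap π (Om k d a) = ∑ i, CohFinite.tmap (biproduct.π (fun _ : Fin m => O) i) (Om k d a) ≫
        CohFinite.tmap (biproduct.ι (fun _ : Fin m => O) i ≫ π) (Om k d a) := by
      simp_rw [← CohFinite.tmap_comp, ← CohFinite.tmap_sum, ← Category.assoc, ← Preadditive.sum_comp,
        biproduct.total, Category.id_comp]
    rw [h1, hhMap_sum]
    refine Finset.sum_congr rfl fun i _ => ?_
    rw [CohFinite.hhMap_comp, ht i y, map_smul]
  obtain ⟨w₀, hw₀⟩ : ∃ w : Coh.HH _ (tw G a) d, w ≠ 0 := by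
    by_contra! h
    exact hne (subsingleton_of_forall_eq 0 h)
  obtain ⟨φ, hφ⟩ : ∃ φ : Module.Dual k (Coh.HH _ (tw G a) d), φ w₀ ≠ 0 := by
    by_contra! h
    exact hw₀ ((Module.forall_dual_apply_eq_zero_iff k w₀).mp h)
  obtain ⟨y₀, rfl⟩ := hsurj w₀
  obtain ⟨i₀, hi₀⟩ : ∃ i, φ (v i) ≠ 0 := by
    by_contra! h
    refine hφ ?_
    rw [hy, map_sum]
    exact Finset.sum_eq_zero fun i _ => by rw [map_smul, h, smul_zero]
  choose σ hσ using fun i => NegTwist.exists_scal k O (φ (v i))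
  let Φ : B ⟶ O := ∑ i, biproduct.π (fun _ : Fin m => O) i ≫ σ i
  have hΦ : ∀ y, CohFinite.hhMap k (CohFinite.tmap π (Om k d a)) d y = 0 →
      CohFinite.hhMap k (CohFinite.tmap Φ (Om k d a)) d y = 0 := fun y h0 => by
    rw [CohFinite.tmap_sum, hhMap_sum]
    have h2 : ∀ i, CohFinite.hhMap k (CohFinite.tmap (biproduct.π (fun _ : Fin m => O) i ≫ σ i) (Om k d a)) d y =
        (φ (v i) * t i y) • e := fun i => by
      rw [CohFinite.tmap_comp, CohFinite.hhMap_comp, ht i y, map_smul, mul_comm, mul_smul]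
      congr 1
      obtain ⟨σ', hσ'⟩ := NegTwist.exists_scal k (tw O a) (φ (v i))
      have : CohFinite.tmap (σ i) (Om k d a) = σ' := TMul.hom_ext fun U p q => by
        rw [CohFinite.tmap_tm, hσ, hσ', TMul.smul_tm]
      rw [this, NegTwist.hhMap_scal k σ' _ hσ']
    rw [Finset.sum_congr rfl fun i _ => h2 i, ← Finset.sum_smul]
    have h3 := congrArg φ (h0.symm.trans (hy y))
    rw [map_zero, map_sum] at h3
    rw [show ∑ i, φ (v i) * t i y = 0 from Eq.trans (Finset.sum_congr rfl fun i _ => by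
      rw [map_smul, smul_eq_mul, mul_comm]) h3.symm, zero_smul]
  have hker : kernel.ι π ≫ Φ = 0 := by
    by_contra hne0
    obtain ⟨z, hz⟩ := hd_surjective_of_ne_zero hd hK (kernel.ι π ≫ Φ) hne0 a e
    refine he ?_
    rw [← hz, CohFinite.tmap_comp, CohFinite.hhMap_comp]
    refine hΦ _ ?_
    rw [← CohFinite.hhMap_comp, ← CohFinite.tmap_comp, kernel.condition, CohFinite.tmap_zero, hhMap_zero]
  let μ : G ⟶ O := Abelian.epiDesc π Φ hker
  obtain ⟨σ₀, hσ₀⟩ := NegTwist.exists_scal k O (φ (v i₀))⁻¹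
  let s : O ⟶ G := σ₀ ≫ biproduct.ι (fun _ : Fin m => O) i₀ ≫ π
  have hs : s ≫ μ = 𝟙 O := by
    have h1 : biproduct.ι (fun _ : Fin m => O) i₀ ≫ Φ = σ i₀ := by
      rw [Preadditive.comp_sum, Finset.sum_eq_single i₀]
      · rw [biproduct.ι_π_self_assoc]
      · intro i _ hi; rw [biproduct.ι_π_ne_assoc _ hi.symm, zero_comp]
      · intro h; exact absurd (Finset.mem_univ _) h
    show (σ₀ ≫ biproduct.ι (fun _ : Fin m => O) i₀ ≫ π) ≫ μ = 𝟙 O
    rw [Category.assoc, Category.assoc, Abelian.comp_epiDesc, h1]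
    refine Scheme.Modules.hom_ext _ _ fun U => ?_
    ext p
    show (σ i₀).app U (σ₀.app U p) = p
    rw [hσ, hσ₀, smul_smul, ← map_mul, mul_inv_cancel₀ hi₀, map_one, one_smul]
  refine ⟨kernel μ, QC.isCoh_kernel hG hO.1 μ, ⟨?_⟩⟩
  have hp : (𝟙 G - μ ≫ s) ≫ μ = 0 := by rw [Preadditive.sub_comp, Category.assoc, hs]; simp
  refine { hom := biprod.lift μ (kernel.lift μ _ hp), inv := biprod.desc s (kernel.ι μ), hom_inv_id := ?_, inv_hom_id := ?_ }
  · rw [biprod.lift_desc, kernel.lift_ι]; abel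
  · refine biprod.hom_ext' _ _ ?_ ?_ <;> refine biprod.hom_ext _ _ ?_ ?_
    · simp only [biprod.inl_desc_assoc, Category.assoc, biprod.lift_fst, Category.comp_id, hs, biprod.inl_fst]; rfl
    · rw [← cancel_mono (kernel.ι μ)]; simp [reassoc_of% hs]
    · simp
    · rw [← cancel_mono (kernel.ι μ)]; simp

end Groth.Agent.Horrocks
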